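import Cfsg.Agent.H91.Transfer

/-!
Cocycles modulo an invariant subgroup: Glauberman's fixed point theorem for quadratic elements of
unrestricted order (odd prime), and averaging over a Sylow subgroup.
-/

set_option autoImplicit false
set_option linter.style.haveILetI false

namespace Cfsg.Agent.H3.NormalCentral

open MulAction Cfsg.Agent.H91

variable {H V : Type*} [Group H] [CommGroup V] [MulDistribMulAction H V] [Finite H]

/-- Fixed point theorem: `W ≤ P` is generated by elements acting quadratically and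
every element conjugating `W` into `P` fixes `w`; then `H` fixes `w` (`p` odd, `P` of index prime to `p`). -/
theorem fixed_of_quadratic {p : ℕ} [Fact p.Prime] (hodd : p ≠ 2) (P : Subgroup H)
    (hP : ¬ p ∣ P.index) (hPp : IsPGroup p P) {w : V} (hwp : w ^ p = 1)
    (hwP : ∀ a ∈ P, a • w = w) (A : Set H) (hAP : A ⊆ P)
    (hAq : ∀ a ∈ A, IsQuadratic p V a)
    (hctrl : ∀ g : H, (∀ a ∈ A, g⁻¹ * a * g ∈ P) → g • w = w) :
    ∀ g : H, g • w = w := by
  classical
  have := Fintype.ofFinite (H ⧸ P)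
  let W := Subgroup.closure A
  have hWP : W ≤ P := (Subgroup.closure_le P).2 hAP
  have hWp : IsPGroup p W := hPp.to_le hWP
  have hpodd : Odd p := (Fact.out : p.Prime).odd_of_ne_two hodd
  have := Fintype.ofFinite (orbitRel.Quotient W (H ⧸ P))
  -- the points moved by `W` contribute trivially
  have hpt : ∀ q, (cosetPt P w q) ^ p = 1 := fun q => by rw [cosetPt, ← smul_pow', hwp, smul_one]
  have horb : ∀ q : H ⧸ P, q ∉ fixedPoints W (H ⧸ P) →
      ∏ r ∈ (MulAction.orbit W q).toFinset, cosetPt P w r = 1 := by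
    intro q hq
    obtain ⟨U, hU, hstab⟩ : ∃ U : Subgroup W, IsCoatom U ∧ stabilizer W q ≤ U := by
      have hne : stabilizer W q ≠ ⊤ := fun h => hq fun v => MulAction.mem_stabilizer_iff.1 (h.symm ▸ Subgroup.mem_top v)
      obtain ⟨U, hU, hle⟩ := (eq_top_or_exists_le_coatom (stabilizer W q)).resolve_left hne
      exact ⟨U, hU, hle⟩
    have hUn : U.Normal :=
      haveI := IsPGroup.isNilpotent hWp
      Subgroup.NormalizerCondition.normal_of_coatom U Group.normalizerCondition_of_isNilpotent hU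
    obtain ⟨a, haA, haU⟩ : ∃ a, ∃ ha : a ∈ A, (⟨a, Subgroup.subset_closure ha⟩ : W) ∉ U := by
      by_contra hcon
      push Not at hcon
      refine hU.1 (eq_top_iff.2 fun v _ => ?_)
      have : W ≤ U.map W.subtype :=
        (Subgroup.closure_le _).2 fun a ha => ⟨_, hcon a ha, rfl⟩
      obtain ⟨u, hu, he⟩ := this v.2
      exact Subtype.ext he ▸ hu
    set a' : W := ⟨a, Subgroup.subset_closure haA⟩ with ha'
    have hap : a' ^ p ∈ U := by
      by_contra hne
      have hsup : Subgroup.zpowers (a' ^ p) ⊔ U = ⊤ :=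
        hU.2 _ (lt_of_le_of_ne le_sup_right fun h => hne (h.symm ▸ Subgroup.mem_sup_left
          (Subgroup.mem_zpowers _)))
      obtain ⟨b, hb, u, hu, hbu⟩ := Subgroup.mem_sup_of_normal_right.1 (hsup ▸ Subgroup.mem_top a')
      obtain ⟨j, rfl⟩ := hb
      set q₀ := QuotientGroup.mk' U a' with hq₀
      have h1 : q₀ = (q₀ ^ p) ^ j := by
        conv_lhs => rw [hq₀, ← hbu]
        rw [map_mul, map_zpow, map_pow, show QuotientGroup.mk' U u = 1 from
          (QuotientGroup.eq_one_iff _).2 hu, mul_one]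
      obtain ⟨n, hn⟩ := (hWp.to_quotient U) q₀
      have h2 : ∀ m : ℕ, q₀ ^ p ^ m = 1 → q₀ = 1 := by
        intro m
        induction m with
        | zero => intro h; rwa [pow_zero, pow_one] at h
        | succ m ihm =>
          intro h
          refine ihm ?_
          rw [h1, ← zpow_natCast, ← zpow_mul, mul_comm, zpow_mul, zpow_natCast, ← pow_mul,
            ← pow_succ', h, one_zpow]
      exact haU ((QuotientGroup.eq_one_iff _).1 (h2 n hn))
    have hcard : orderOf (QuotientGroup.mk' U a') = p := by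
      refine orderOf_eq_prime ?_ ?_
      · rw [← map_pow]
        exact (QuotientGroup.eq_one_iff _).2 hap
      · rwa [Ne, QuotientGroup.mk'_apply, QuotientGroup.eq_one_iff]
    -- decompose the orbit along powers of `a'`
    have hgen : ∀ v : W, ∃ i < p, (a' ^ i)⁻¹ * v ∈ U := by
      intro v
      have hsup : Subgroup.zpowers a' ⊔ U = ⊤ :=
        hU.2 _ (lt_of_le_of_ne le_sup_right fun h => haU (h.symm ▸ Subgroup.mem_sup_left
          (Subgroup.mem_zpowers a')))
      obtain ⟨b, hb, u, hu, rfl⟩ := Subgroup.mem_sup_of_normal_right.1 (hsup ▸ Subgroup.mem_top v)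
      obtain ⟨i, rfl⟩ := (isOfFinOrder_of_finite a').mem_zpowers_iff_mem_range_orderOf.1 hb |>
        fun h => (by simpa using h : ∃ i, i < orderOf a' ∧ a' ^ i = b) |>
        fun ⟨i, _, h⟩ => (⟨i, h.symm⟩ : ∃ i, b = a' ^ i)
      refine ⟨i % p, Nat.mod_lt _ (Fact.out : p.Prime).pos, ?_⟩
      have e : (a' ^ (i % p))⁻¹ * (a' ^ i * u) = (a' ^ p) ^ (i / p) * u := by
        conv_lhs => arg 2; arg 1; rw [← Nat.mod_add_div i p, pow_add, pow_mul]
        group
      rw [e]
      exact U.mul_mem (U.pow_mem hap _) hu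
    set O := (MulAction.orbit U q).toFinset with hO
    have hdec : (MulAction.orbit W q).toFinset =
        (Finset.range p).biUnion fun i => O.image fun r => a' ^ i • r := by
      ext r
      simp only [Set.mem_toFinset, Finset.mem_biUnion, Finset.mem_image, Finset.mem_range, hO]
      constructor
      · rintro ⟨v, rfl⟩
        obtain ⟨i, hi, hu⟩ := hgen v
        refine ⟨i, hi, ((a' ^ i)⁻¹ * v) • q, ⟨⟨_, hu⟩, rfl⟩, ?_⟩
        show a' ^ i • ((a' ^ i)⁻¹ * v) • q = v • q
        rw [← mul_smul, mul_inv_cancel_left]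
      · rintro ⟨i, -, _, ⟨u, rfl⟩, rfl⟩
        exact ⟨a' ^ i * u.1, mul_smul _ _ _⟩
    have hdisj : Set.PairwiseDisjoint (Finset.range p : Set ℕ) fun i => O.image fun r => a' ^ i • r := by
      intro i hi j hj hij
      rw [Function.onFun, Finset.disjoint_left]
      intro r hr1 hr2
      simp only [Finset.mem_image, hO, Set.mem_toFinset] at hr1 hr2
      obtain ⟨_, ⟨u1, rfl⟩, h1⟩ := hr1
      obtain ⟨_, ⟨u2, rfl⟩, h2⟩ := hr2
      have h3 : ((a' ^ i * u1.1)⁻¹ * (a' ^ j * u2.1)) • q = q := by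
        rw [mul_smul, inv_smul_eq_iff, mul_smul, mul_smul]
        exact h2.trans h1.symm
      have h4 := hstab h3
      have h5 : QuotientGroup.mk' U a' ^ i = QuotientGroup.mk' U a' ^ j := by
        have h6 : QuotientGroup.mk' U ((a' ^ i * u1.1)⁻¹ * (a' ^ j * u2.1)) = 1 :=
          (QuotientGroup.eq_one_iff _).2 h4
        have hu1 : QuotientGroup.mk' U u1.1 = 1 := (QuotientGroup.eq_one_iff _).2 u1.2
        have hu2 : QuotientGroup.mk' U u2.1 = 1 := (QuotientGroup.eq_one_iff _).2 u2.2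
        rw [map_mul, map_inv, map_mul, map_mul, hu1, hu2, mul_one, mul_one, map_pow, map_pow,
          inv_mul_eq_one] at h6
        exact h6
      rw [pow_eq_pow_iff_modEq, hcard] at h5
      simp only [Finset.coe_range, Set.mem_Iio] at hi hj
      exact hij (Nat.ModEq.eq_of_lt_of_lt h5 hi hj)
    set y := ∏ r ∈ O, cosetPt P w r with hy
    have hterm : ∀ i, ∏ r ∈ O.image (fun r => a' ^ i • r), cosetPt P w r = a ^ i • y := by
      intro i
      rw [Finset.prod_image fun r _ s _ h => smul_left_cancel _ h, hy, Finset.smul_prod']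
      exact Finset.prod_congr rfl fun r _ => (smul_cosetPt P hwP _ r).symm
    rw [hdec, Finset.prod_biUnion hdisj, Finset.prod_congr rfl fun i _ => hterm i]
    have hyp : y ^ p = 1 := by rw [hy, ← Finset.prod_pow]; simp [hpt]
    refine smul_prod_range_eq_one hpodd (hAq a haA y hyp) (mul_inv_cancel_left _ _).symm hyp ?_
    rw [mul_pow, inv_pow, ← smul_pow', hyp, smul_one, inv_one, one_mul]
  have hfix : ∀ q ∈ fixedPoints W (H ⧸ P), cosetPt P w q = w := by
    intro q hq
    obtain ⟨g, rfl⟩ := QuotientGroup.mk_surjective q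
    rw [cosetPt_mk P hwP]
    refine hctrl g fun a ha => ?_
    have h : (QuotientGroup.mk (a * g) : H ⧸ P) = QuotientGroup.mk g :=
      hq (⟨a, Subgroup.subset_closure ha⟩ : W)
    have := QuotientGroup.eq.1 h.symm
    rwa [← mul_assoc] at this
  have hnorm : normMap P w = w ^ (fixedPoints W (H ⧸ P)).toFinset.card := by
    rw [normMap, ← Finset.prod_filter_mul_prod_filter_not Finset.univ (fun q => q ∈ fixedPoints W (H ⧸ P))]
    have e1 : Finset.univ.filter (fun q => q ∈ fixedPoints W (H ⧸ P)) = (fixedPoints W (H ⧸ P)).toFinset := by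
      ext; simp
    rw [e1, Finset.prod_congr rfl fun q hq => hfix q (Set.mem_toFinset.1 hq), Finset.prod_const]
    convert mul_one _
    rw [← Finset.prod_fiberwise (Finset.univ.filter fun q => q ∉ fixedPoints W (H ⧸ P))
      (fun q => (Quotient.mk'' q : orbitRel.Quotient W (H ⧸ P)))]
    refine Finset.prod_eq_one fun o _ => ?_
    induction o using Quotient.inductionOn' with
    | h q =>
      by_cases hq : q ∈ fixedPoints W (H ⧸ P)
      · refine Finset.prod_eq_one fun r hr => absurd hq ?_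
        simp only [Finset.mem_filter, Finset.mem_univ, true_and] at hr
        intro hq'
        obtain ⟨v, rfl⟩ : r ∈ MulAction.orbit W q := Quotient.eq''.1 hr.2
        exact hr.1 (by simpa [hq' v] using hq')
      · rw [← horb q hq]
        refine Finset.prod_congr ?_ fun _ _ => rfl
        ext r
        simp only [Finset.mem_filter, Finset.mem_univ, true_and, Set.mem_toFinset]
        refine ⟨fun h => Quotient.eq''.1 h.2, fun h => ⟨?_, Quotient.eq''.2 h⟩⟩
        obtain ⟨v, rfl⟩ := h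
        intro hr
        have h2 := hr v⁻¹
        rw [inv_smul_smul] at h2
        exact hq (h2.symm ▸ hr)
  have hcop : ¬ p ∣ (fixedPoints W (H ⧸ P)).toFinset.card := by
    have := hWp.card_modEq_card_fixedPoints (H ⧸ P)
    rw [Set.toFinset_card, ← Nat.card_eq_fintype_card]
    intro hd
    exact hP (Nat.modEq_zero_iff_dvd.1 (this.trans (Nat.modEq_zero_iff_dvd.2 hd)))
  intro g
  refine fixed_of_pow_fixed (orderOf_coprime hcop (k := 1) (by rwa [pow_one])) ?_
  rw [← hnorm, smul_normMap P hwP]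


/-- The same for elements of any `p`-power order. -/
theorem fixed_of_quadratic_all {p : ℕ} [Fact p.Prime] (hodd : p ≠ 2) (P : Subgroup H)
    (hP : ¬ p ∣ P.index) (hPp : IsPGroup p P) (A : Set H) (hAP : A ⊆ P)
    (hAq : ∀ a ∈ A, IsQuadratic p V a) {w : V} {k : ℕ} (hwk : w ^ p ^ k = 1)
    (hwP : ∀ a ∈ P, a • w = w) (hctrl : ∀ g : H, (∀ a ∈ A, g⁻¹ * a * g ∈ P) → g • w = w) :
    ∀ g : H, g • w = w := by
  induction k generalizing w with
  | zero =>
    intro g
    rw [show w = 1 by simpa using hwk, smul_one]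
  | succ k ih =>
    refine fixed_of_elementary P hP ⟨k + 1, hwk⟩ hwP
      (ih (w := w ^ p) (by rw [← pow_mul, ← pow_succ', hwk])
        (fun a ha => by rw [smul_pow', hwP a ha])
        (fun g hg => by rw [smul_pow', hctrl g hg])) fun v hv hstab => ?_
    exact fixed_of_quadratic hodd P hP hPp hv (fun a ha => hstab a (hwP a ha)) A hAP hAq
      fun g hg => hstab g (hctrl g hg)

section Cocycle

variable {M : Type*} [CommGroup M] [MulDistribMulAction H M] (D : Subgroup M)

omit [Finite H] in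
/-- Elementary properties of a cocycle modulo `D`. -/
theorem cocycle_one {c : H → M} (hc : ∀ g h, (c g * g • c h)⁻¹ * c (g * h) ∈ D) : c 1 ∈ D := by
  have h := hc 1 1
  rw [one_smul, one_mul, mul_inv_rev, mul_assoc, inv_mul_cancel, mul_one] at h
  exact inv_mem_iff.1 h

omit [Finite H] in
theorem cocycle_of_inv {c : H → M} (hD : ∀ g : H, ∀ m ∈ D, g • m ∈ D)
    (hc : ∀ g h, (c g * g • c h)⁻¹ * c (g * h) ∈ D) {g : H} (hg : c g⁻¹ ∈ D) : c g ∈ D := by
  have h := hc g g⁻¹
  rw [mul_inv_cancel, D.mul_mem_cancel_right (cocycle_one D hc), inv_mem_iff] at h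
  exact (D.mul_mem_cancel_right (hD g _ hg)).1 h

variable (p : ℕ) [Fact p.Prime]

theorem cocycle_trivial (hodd : p ≠ 2) {k : ℕ} (hM : ∀ m : M, m ^ p ^ k = 1)
    (hD : ∀ g : H, ∀ m ∈ D, g • m ∈ D) {c : H → M}
    (hc : ∀ g h, (c g * g • c h)⁻¹ * c (g * h) ∈ D) (P : Subgroup H) (hP : ¬ p ∣ P.index)
    (hPp : IsPGroup p P) (hcP : ∀ a ∈ P, c a ∈ D) (A : Set H) (hAP : A ⊆ P)
    (hAq : ∀ a ∈ A, ∀ m : M, a • (m⁻¹ * a • m) = m⁻¹ * a • m)
    (hctrl : ∀ g : H, (∀ a ∈ A, g⁻¹ * a * g ∈ P) → c g ∈ D) : ∀ g, c g ∈ D := by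
  classical
  let π := QuotientGroup.mk' D
  have hπ : ∀ {m}, π m = 1 ↔ m ∈ D := QuotientGroup.eq_one_iff _
  haveI : NeZero (p ^ k) := ⟨pow_ne_zero _ (Fact.out : p.Prime).ne_zero⟩
  let actQ : H → (M ⧸ D) →* M ⧸ D := fun g =>
    QuotientGroup.map D D (MulDistribMulAction.toMonoidHom M g) fun m hm => hD g m hm
  have hactQ : ∀ (g : H) (m : M), actQ g (π m) = π (g • m) := fun _ _ => rfl
  let e : H → Multiplicative (ZMod (p ^ k)) → M ⧸ D := fun g i => π (c g) ^ i.toAdd.val
  have hcg : ∀ g : H, π (c g) ^ p ^ k = 1 := fun g => by rw [← map_pow, hM, map_one]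
  have he : ∀ g i j, e g (i * j) = e g i * e g j := fun g i j => by
    simp only [e, toAdd_mul, ZMod.val_add, ← pow_add, ← pow_eq_pow_mod _ (hcg g)]
  have hcc : ∀ g h, π (c (g * h)) = π (c g) * π (g • c h) := fun g h => by
    rw [← map_mul]
    exact (QuotientGroup.eq.2 (hc g h)).symm
  letI : MulDistribMulAction H ((M ⧸ D) × Multiplicative (ZMod (p ^ k))) :=
    { smul := fun g v => (actQ g v.1 * e g v.2, v.2)
      one_smul := fun v => by
        obtain ⟨m, hm⟩ := QuotientGroup.mk'_surjective D v.1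
        refine Prod.ext ?_ rfl
        show actQ 1 v.1 * π (c 1) ^ _ = v.1
        rw [← hm, hactQ, one_smul, hπ.2 (cocycle_one D hc), one_pow, mul_one]
      mul_smul := fun g h v => by
        obtain ⟨m, hm⟩ := QuotientGroup.mk'_surjective D v.1
        refine Prod.ext ?_ rfl
        show actQ (g * h) v.1 * π (c (g * h)) ^ v.2.toAdd.val =
          actQ g (actQ h v.1 * π (c h) ^ v.2.toAdd.val) * π (c g) ^ v.2.toAdd.val
        rw [← hm, map_mul, map_pow, hactQ, hactQ, hactQ, hactQ, mul_smul, hcc, mul_pow, mul_assoc,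
          mul_comm (π (c g) ^ _)]
      smul_mul := fun g v w => by
        refine Prod.ext ?_ rfl
        show actQ g (v.1 * w.1) * e g (v.2 * w.2) = actQ g v.1 * e g v.2 * (actQ g w.1 * e g w.2)
        rw [map_mul, he, mul_mul_mul_comm]
      smul_one := fun g => by
        refine Prod.ext ?_ rfl
        show actQ g 1 * π (c g) ^ (Multiplicative.toAdd (1 : Multiplicative (ZMod (p ^ k)))).val = 1
        rw [map_one, toAdd_one, ZMod.val_zero, pow_zero, mul_one] }
  set w : (M ⧸ D) × Multiplicative (ZMod (p ^ k)) := (1, Multiplicative.ofAdd 1) with hw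
  have hwk : w ^ p ^ k = 1 := by
    refine Prod.ext (one_pow _) (Multiplicative.toAdd.injective ?_)
    rw [hw, Prod.pow_snd, toAdd_pow]
    simp
  have hsm : ∀ g : H, g • w = w ↔ c g ∈ D := by
    intro g
    rw [← hπ]
    show (actQ g 1 * π (c g) ^ (1 : ZMod (p ^ k)).val, _) = (1, _) ↔ _
    rw [map_one, one_mul, Prod.mk.injEq]
    constructor
    · rintro ⟨h, -⟩
      by_cases hk : p ^ k = 1
      · have := hcg g
        rwa [hk, pow_one] at this
      · haveI : Fact (1 < p ^ k) := ⟨lt_of_le_of_ne (Nat.one_le_iff_ne_zero.2 (NeZero.ne _)) (Ne.symm hk)⟩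
        rwa [ZMod.val_one, pow_one] at h
    · intro h
      exact ⟨by rw [h, one_pow], rfl⟩
  have hfix := fixed_of_quadratic_all hodd P hP hPp A hAP (V := (M ⧸ D) × Multiplicative (ZMod (p ^ k)))
    (fun a ha y _ => by
      obtain ⟨m, hm⟩ := QuotientGroup.mk'_surjective D y.1
      have hea : ∀ i, e a i = 1 := fun i => by
        show π (c a) ^ _ = 1
        rw [hπ.2 (hcP a (hAP ha)), one_pow]
      refine Prod.ext ?_ rfl
      show actQ a (y.1⁻¹ * (actQ a y.1 * e a y.2)) * e a _ = y.1⁻¹ * (actQ a y.1 * e a y.2)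
      rw [hea, hea, mul_one, mul_one, ← hm]
      show actQ a ((π m)⁻¹ * π (a • m)) = (π m)⁻¹ * π (a • m)
      rw [← map_inv π, ← map_mul π, hactQ, hAq a ha m]) hwk
    (fun a ha => (hsm a).2 (hcP a ha)) (fun g hg => (hsm g).2 (hctrl g hg))
  exact fun g => (hsm g).1 (hfix g)

/-- Averaging: a cocycle modulo `D` vanishing on `P` whose values can be chosen fixed by the stabilizers
is a coboundary of a `P`-fixed element modulo `D`. -/
theorem cocycle_average {k : ℕ} (hM : ∀ m : M, m ^ p ^ k = 1) (hD : ∀ g : H, ∀ m ∈ D, g • m ∈ D)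
    {c : H → M} (hc : ∀ g h, (c g * g • c h)⁻¹ * c (g * h) ∈ D) (P : Subgroup H) (hP : ¬ p ∣ P.index)
    (hcP : ∀ a ∈ P, c a ∈ D)
    (hsel : ∀ g : H, ∃ z : M, (c g)⁻¹ * z ∈ D ∧ ∀ a ∈ P, g⁻¹ * a * g ∈ P → a • z = z) :
    ∃ v : M, (∀ a ∈ P, a • v = v) ∧ ∀ g : H, c g * g • v * v⁻¹ ∈ D := by
  classical
  let π := QuotientGroup.mk' D
  have hπ : ∀ {m}, π m = 1 ↔ m ∈ D := QuotientGroup.eq_one_iff _
  have hπe : ∀ {m n : M}, m⁻¹ * n ∈ D → π m = π n := fun h => QuotientGroup.eq.2 h
  have hπs : ∀ (g : H) {m n : M}, π m = π n → π (g • m) = π (g • n) := fun g {m n} h => by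
    have h1 := hD g _ (QuotientGroup.eq.1 h)
    rw [smul_mul', smul_inv'] at h1
    exact hπe h1
  have hcc : ∀ g h, π (c (g * h)) = π (c g) * π (g • c h) := fun g h => by
    rw [← map_mul]
    exact (hπe (hc g h)).symm
  choose sel hsel₁ hsel₂ using hsel
  have := Fintype.ofFinite (H ⧸ P)
  let rep : H ⧸ P → H ⧸ P := fun q =>
    (Quotient.mk (orbitRel P (H ⧸ P)) q).out
  have hrep : ∀ q, ∃ a : P, a • rep q = q := fun q => by
    have h := Quotient.mk_out (s := orbitRel P (H ⧸ P)) q
    obtain ⟨a, ha⟩ := h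
    exact ⟨a⁻¹, inv_smul_eq_iff.2 ha.symm⟩
  have hrep' : ∀ (b : P) q, rep (b • q) = rep q := fun b q => by
    have : Quotient.mk (orbitRel P (H ⧸ P)) (b • q) = Quotient.mk _ q := Quotient.sound ⟨b, rfl⟩
    simp only [rep, this]
  choose tr htr using hrep
  let g0 : H ⧸ P → H := fun q => (rep q).out
  let s : H ⧸ P → M := fun q => (tr q : H) • sel (g0 q)
  have hg0 : ∀ q, (tr q : H) * g0 q = q.out ∨ ∃ h ∈ P, (tr q : H) * g0 q = q.out * h := fun q => by
    right
    have h1 : (QuotientGroup.mk ((tr q : H) * g0 q) : H ⧸ P) = q := by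
      conv_rhs => rw [← htr q]
      show ((tr q : H) • (QuotientGroup.mk (g0 q) : H ⧸ P)) = _
      rw [QuotientGroup.out_eq']
      rfl
    refine ⟨q.out⁻¹ * ((tr q : H) * g0 q), ?_, by group⟩
    exact QuotientGroup.eq.1 ((QuotientGroup.out_eq' q).trans h1.symm)
  have hs : ∀ q, π (s q) = π (c q.out) := fun q => by
    have e : π (c ((tr q : H) * g0 q)) = π (s q) := by
      rw [hcc, hπ.2 (hcP _ (tr q).2), one_mul]
      exact hπs _ (hπe (hsel₁ _))
    rcases hg0 q with h | ⟨h, hh, he⟩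
    · rw [← e, h]
    · rw [← e, he, hcc, hπs q.out (show π (c h) = π 1 by rw [map_one]; exact hπ.2 (hcP h hh)), smul_one,
        map_one, mul_one]
  have hseq : ∀ (b : P) q, s (b • q) = (b : H) • s q := by
    intro b q
    simp only [s, g0, hrep' b q, ← mul_smul]
    set r := rep q
    have h1 : ((b : H) * tr q)⁻¹ * (tr (b • q) : H) ∈ P := P.mul_mem (P.inv_mem
      (P.mul_mem b.2 (tr q).2)) (tr (b • q)).2
    set a := ((b : H) * tr q)⁻¹ * (tr (b • q) : H) with ha
    have h2 : (⟨a, h1⟩ : P) • r = r := by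
      have e1 := htr (b • q)
      rw [hrep'] at e1
      show a • r = r
      rw [ha, mul_smul, inv_smul_eq_iff, mul_smul, show (tr q : H) • r = q from htr q]
      exact e1
    have h3 : r.out⁻¹ * a * r.out ∈ P := by
      have h4 : (QuotientGroup.mk (a * r.out) : H ⧸ P) = QuotientGroup.mk r.out := by
        rw [QuotientGroup.out_eq']
        calc (QuotientGroup.mk (a * r.out) : H ⧸ P) = a • (QuotientGroup.mk r.out : H ⧸ P) := rfl
          _ = r := by rw [QuotientGroup.out_eq']; exact h2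
      have := QuotientGroup.eq.1 h4.symm
      rwa [← mul_assoc] at this
    rw [show (tr (b • q) : H) = ((b : H) * tr q) * a by rw [ha, mul_inv_cancel_left], mul_smul,
      hsel₂ _ a h1 h3]
  set v₀ := ∏ q, s q with hv₀
  have hv₀P : ∀ b ∈ P, b • v₀ = v₀ := fun b hb => by
    have : ∀ q, b • s q = s ((⟨b, hb⟩ : P) • q) := fun q => (hseq ⟨b, hb⟩ q).symm
    rw [hv₀, Finset.smul_prod', Finset.prod_congr rfl fun q _ => this q]
    exact Equiv.prod_comp (MulAction.toPerm (⟨b, hb⟩ : P)) s
  have hv₀c : ∀ g : H, π v₀ = π (c g) ^ P.index * π (g • v₀) := fun g => by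
    have hterm : ∀ q, π (s (g • q)) = π (c g) * π (g • s q) := fun q => by
      obtain ⟨h, hh, he⟩ : ∃ h ∈ P, g * q.out = (g • q).out * h := by
        refine ⟨(g • q).out⁻¹ * (g * q.out), QuotientGroup.eq.1 ?_, by group⟩
        rw [QuotientGroup.out_eq']
        conv_lhs => rw [← QuotientGroup.out_eq' q]
        rfl
      have e := congrArg (fun y => π (c y)) he
      simp only [hcc] at e
      rw [hπs g (hs q), e, hπs _ (show π (c h) = π 1 by rw [map_one]; exact hπ.2 (hcP h hh)), smul_one,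
        map_one, mul_one, hs]
    calc π v₀ = ∏ q, π (s q) := map_prod π s _
      _ = ∏ q, π (s (g • q)) := (Equiv.prod_comp (MulAction.toPerm g) fun q => π (s q)).symm
      _ = ∏ q, π (c g) * π (g • s q) := Finset.prod_congr rfl fun q _ => hterm q
      _ = π (c g) ^ P.index * π (g • v₀) := by
        rw [Finset.prod_mul_distrib, Finset.prod_const, Finset.card_univ, Subgroup.index,
          Nat.card_eq_fintype_card, hv₀, Finset.smul_prod', map_prod]
  have hco : Nat.Coprime P.index (p ^ k) :=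
    (Nat.Coprime.pow_left k ((Nat.Prime.coprime_iff_not_dvd Fact.out).2 hP)).symm
  obtain ⟨l, hl⟩ : ∃ l : ℕ, ∀ m : M, (m ^ P.index) ^ l = m := by
    obtain ⟨l, hl⟩ := Nat.exists_mul_mod_eq_of_coprime 1 hco (pow_ne_zero _ (Fact.out : p.Prime).ne_zero)
    refine ⟨l, fun m => ?_⟩
    rw [← pow_mul, pow_eq_pow_mod _ (hM m), hl.2, ← pow_eq_pow_mod _ (hM m), pow_one]
  refine ⟨v₀ ^ l, fun a ha => by rw [smul_pow', hv₀P a ha], fun g => hπ.1 ?_⟩
  rw [map_mul, map_mul, map_inv, smul_pow', map_pow, map_pow, hv₀c g, mul_pow, ← map_pow π (c g),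
    ← map_pow π (c g ^ P.index), hl, mul_inv_cancel]

end Cocycle

end Cfsg.Agent.H3.NormalCentral
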