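import Cfsg.Agent.H3.NormalCentral.Twist
import Cfsg.Agent.H3.NormalCentral.Cocycle

/-!
Modulo the centre of `T`, every element centralizing `T` is centralized by a normal subsystem (`p` odd).
-/

set_option autoImplicit false
set_option linter.style.haveILetI false
set_option linter.unusedSectionVars false

namespace Cfsg.Agent.H3.NormalCentral

open Cfsg Cfsg.FusionSystem Cfsg.Agent.FusionSys Cfsg.Agent.H91.CentFocal Cfsg.Agent.Thompson
open Cfsg.FusionSystem (centralizerIn normalizerIn)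

variable {Ω : Type*} [Group Ω] {S T P Q R : Subgroup Ω} {F : FusionSystem S} {E : FusionSystem T}
  {x : Ω} {f g : Ω → Ω} {p : ℕ}

/-- The centre of a subgroup is commutative. -/
@[reducible] def centreCommGroup (R : Subgroup Ω) : CommGroup ↥(centralizerIn R R) :=
  { (inferInstance : Group ↥(centralizerIn R R)) with
    mul_comm := fun a b => Subtype.ext ((FusionSys.mem_centralizerIn.1 b.2).2 a
      (FusionSys.mem_centralizerIn.1 a.2).1) }

attribute [local instance] centreCommGroup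

theorem autMap_centre (α : MulAut R) (m : ↥(centralizerIn R R)) :
    autMap α (m : Ω) ∈ centralizerIn R R := by
  obtain ⟨hm, hc⟩ := FusionSys.mem_centralizerIn.1 m.2
  refine FusionSys.mem_centralizerIn.2 ⟨autMap_mem α hm, fun y hy => ?_⟩
  rw [autMap_apply α hm, show y = ((α (α.symm ⟨y, hy⟩) : R) : Ω) by rw [MulEquiv.apply_symm_apply]]
  exact congrArg Subtype.val (show α (α.symm ⟨y, hy⟩) * α ⟨m, hm⟩ = α ⟨m, hm⟩ * α (α.symm ⟨y, hy⟩) by
    rw [← map_mul, ← map_mul]
    exact congrArg α (Subtype.ext (hc _ (α.symm ⟨y, hy⟩).2)))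

theorem inv_autMap (β : MulAut R) {y : Ω} (hy : y ∈ R) : autMap β⁻¹ (autMap β y) = y := by
  rw [← autMap_mul _ _ hy, inv_mul_cancel, H91.CentFocal.autMap_one hy]

/-- Automorphisms act on the centre. -/
@[reducible] noncomputable def centreAction (A : Subgroup (MulAut R)) :
    MulDistribMulAction A ↥(centralizerIn R R) where
  smul a m := ⟨autMap (a : MulAut R) m, autMap_centre _ m⟩
  one_smul m := Subtype.ext (H91.CentFocal.autMap_one (FusionSys.mem_centralizerIn.1 m.2).1)
  mul_smul a b m := Subtype.ext (autMap_mul _ _ (FusionSys.mem_centralizerIn.1 m.2).1)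
  smul_mul a m n := Subtype.ext (by
    show autMap (a : MulAut R) ((m : Ω) * n) = autMap (a : MulAut R) m * autMap (a : MulAut R) n
    have hm := (FusionSys.mem_centralizerIn.1 m.2).1
    have hn := (FusionSys.mem_centralizerIn.1 n.2).1
    rw [autMap_apply _ hm, autMap_apply _ hn, autMap_apply _ (R.mul_mem hm hn)]
    exact congrArg Subtype.val (map_mul (a : MulAut R) ⟨_, hm⟩ ⟨_, hn⟩))
  smul_one a := Subtype.ext (by
    show autMap (a : MulAut R) (1 : Ω) = 1
    rw [autMap_apply _ R.one_mem]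
    exact congrArg Subtype.val (map_one (a : MulAut R)))

attribute [local instance] centreAction

theorem Tw.fix_comp {g : Ω → Ω} (hm : ∀ y ∈ P, f y ∈ Q) (hg : IsMap F Q g) (h₁ : Tw F x P f 1)
    (h₂ : Tw F x Q g 1) : Tw F x P (g ∘ f) 1 := by
  have h := h₁.comp hm h₂ Q.one_mem
  rwa [hg.map_one, mul_one] at h

theorem Tw.fix_inv (hi : IsIso F P Q f) (hgf : ∀ y ∈ P, g (f y) = y) (h : Tw F x P f 1) :
    Tw F x Q g 1 := by
  have h' := h.inv hi hgf Q.one_mem
  have : g 1 = 1 := by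
    have := hgf 1 P.one_mem
    rwa [hi.isMap.map_one] at this
  rwa [this, inv_one] at h'

variable (hT : F.StronglyClosed T) (hxC : x ∈ centralizerIn S T)
include hT hxC

/-- The ambiguity subgroup in the centre. -/
def ambig (hR : R ≤ T) : Subgroup ↥(centralizerIn R R) where
  carrier := {m | Tw F x R id m}
  one_mem' := tw_id hT hxC hR
  mul_mem' := fun {a b} ha hb => by
    rw [mul_comm]
    exact Tw.id_mul hT hxC ha hb (FusionSys.mem_centralizerIn.1 a.2).1
  inv_mem' := fun {a} ha => Tw.id_inv hT hxC hR ha (FusionSys.mem_centralizerIn.1 a.2).1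

theorem mem_ambig {hR : R ≤ T} {m : ↥(centralizerIn R R)} :
    m ∈ ambig hT hxC hR ↔ Tw F x R id m := Iff.rfl

variable [Finite S] [Fact p.Prime] (hS : IsPGroup p S) (hF : F.IsSaturated p) (hE : E.IsNormalIn F p)
include hS hF hE

theorem isIso_aut (hR : R ≤ T) {α : MulAut R} (hα : α ∈ E.autGroup R) :
    IsIso F R R (autMap α) :=
  isIso_of_sub hE.1.2.2.1 (isIso_autMap hR hα)

theorem mem_ambig_of_tw (hR : R ≤ T) {α : MulAut R} (hα : α ∈ E.autGroup R)
    {m n : ↥(centralizerIn R R)} (h₁ : Tw F x R (autMap α) m) (h₂ : Tw F x R (autMap α) n) :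
    m⁻¹ * n ∈ ambig hT hxC hR :=
  Tw.diff hT hxC hR (isIso_aut hT hxC hS hF hE hR hα) h₁ h₂ (FusionSys.mem_centralizerIn.1 m.2).1

/-- A twisted extension with twist in the ambiguity gives an extension fixing `x`. -/
theorem fix_of_tw (hR : R ≤ T) {α : MulAut R} (hα : α ∈ E.autGroup R)
    {m : ↥(centralizerIn R R)} (h : Tw F x R (autMap α) m) (hm : m ∈ ambig hT hxC hR) :
    Tw F x R (autMap α) 1 := by
  have h' := h.comp (fun y hy => autMap_mem α hy) ((mem_ambig hT hxC).1 (inv_mem hm) : Tw F x R id _)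
    (FusionSys.mem_centralizerIn.1 m.2).1
  simpa using h'

/-- The cocycle of twists. -/
theorem exists_cocycle (hR : E.IsCentric R) :
    ∃ c : E.autGroup R → ↥(centralizerIn R R),
      (∀ a : E.autGroup R, Tw F x R (autMap (a : MulAut R)) (c a)) ∧
      (∀ a b, (c a * a • c b)⁻¹ * c (a * b) ∈ ambig hT hxC hR.1) ∧
      ∀ (a : E.autGroup R), ∀ m ∈ ambig hT hxC hR.1, a • m ∈ ambig hT hxC hR.1 := by
  have hex : ∀ a : E.autGroup R, ∃ m : ↥(centralizerIn R R), Tw F x R (autMap (a : MulAut R)) m := by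
    intro a
    obtain ⟨z, hz, h⟩ := exists_tw_aut hT hxC hS hF hE hR a.2
    refine ⟨⟨z, FusionSys.mem_centralizerIn.2 ⟨hz, fun y hy => ?_⟩⟩, h⟩
    obtain ⟨w, hw, rfl⟩ := (isIso_autMap hR.1 a.2).exists_preimage hy
    exact h.central hT hxC hR.1 w hw
  choose c hc using hex
  refine ⟨c, hc, fun a b => ?_, fun a m hm => ?_⟩
  · refine mem_ambig_of_tw hT hxC hS hF hE hR.1 (a * b).2 ?_ (hc _)
    exact (((hc b).comp (fun y hy => autMap_mem _ hy) (hc a)
      (FusionSys.mem_centralizerIn.1 (c b).2).1).congr fun y hy => autMap_mul _ _ hy)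
  · have h : (c a)⁻¹ * (c a * a • m) ∈ ambig hT hxC hR.1 :=
      mem_ambig_of_tw hT hxC hS hF hE hR.1 a.2 (hc a)
        (((mem_ambig hT hxC).1 hm).comp (fun y hy => hy) (hc a) (FusionSys.mem_centralizerIn.1 m.2).1)
    rwa [inv_mul_cancel_left] at h

/-- Sylow subgroup of the automorphisms of a fully normalized subgroup. -/
theorem sylow_data (hR : E.IsFullyNormalized R) {c : E.autGroup R → ↥(centralizerIn R R)}
    (hc : ∀ a : E.autGroup R, Tw F x R (autMap (a : MulAut R)) (c a)) :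
    ¬ p ∣ ((autInducedBy T R).subgroupOf (E.autGroup R)).index ∧
      IsPGroup p ((autInducedBy T R).subgroupOf (E.autGroup R)) ∧
      ∀ a ∈ (autInducedBy T R).subgroupOf (E.autGroup R), c a ∈ ambig hT hxC hR.1 := by
  haveI : Finite T := finite_of_le hT.1
  haveI := finite_autGroup E hR.1
  obtain ⟨-, Sy, hSy⟩ := isFullyAutomized_of_isFullyNormalized (hS.to_le hT.1) hE.1.1 hR
  refine ⟨hSy ▸ Sy.not_dvd_index, hSy ▸ Sy.2, fun a ha => ?_⟩
  obtain ⟨t, ht, htn, he⟩ := mem_autInducedBy.1 (Subgroup.mem_subgroupOf.1 ha)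
  have h : (1 : ↥(centralizerIn R R))⁻¹ * c a ∈ ambig hT hxC hR.1 :=
    mem_ambig_of_tw hT hxC hS hF hE hR.1 a.2
      ((tw_conjMap hT hxC hR.1 ht).congr fun y hy => by rw [he]; exact autMap_conjAut _ hy) (hc a)
  rwa [inv_one, one_mul] at h

omit hxC in
/-- Extending an automorphism over elements it carries into `Aut_T(R)`. -/
theorem exists_extend_aut (hR : E.IsFullyNormalized R) {α : MulAut R} (hα : α ∈ E.autGroup R)
    {N : Subgroup Ω} (hN : N ≤ normalizerIn T R)
    (h : ∀ t (ht : t ∈ N), α * conjAut (hN ht).2 * α⁻¹ ∈ autInducedBy T R) :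
    ∃ k, IsMap E (N ⊔ R) k ∧ ∀ y ∈ R, k y = autMap α y := by
  haveI : Finite T := finite_of_le hT.1
  refine receptive_extend (receptive_of_isFullyNormalized (hS.to_le hT.1) hE.1.1 hR)
    (isIso_autMap hR.1 hα) fun t ht => ?_
  obtain ⟨s, hs, hsn, he⟩ := mem_autInducedBy.1 (h t ht)
  refine ⟨(hN ht).1, (hN ht).2, s, hs, fun y hy => ?_⟩
  have h1 := congrArg (fun e : MulAut R => autMap e (autMap α y)) he
  rw [autMap_mul _ _ (autMap_mem _ hy), inv_autMap α hy, autMap_mul _ _ hy,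
    autMap_conjAut _ hy, conjMap_apply, autMap_conjAut _ (autMap_mem _ hy), conjMap_apply] at h1
  exact h1

/-- Automorphisms of `R` when `J(N_T(R))` is not in `R`. -/
theorem fix_of_jay_not_le (hp2 : p ≠ 2) (hRn : E.IsFullyNormalized R) (hRc : E.IsCentric R)
    (hJ : ¬ jay 0 (normalizerIn T R) ≤ R)
    (hbig : ∀ P f, IsMap E P f → E.IsCentric P → key S R < key S P → Tw F x P f 1)
    {α : MulAut R} (hα : α ∈ E.autGroup R) : Tw F x R (autMap α) 1 := by
  have hTS := hT.1
  haveI : Finite T := finite_of_le hTS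
  haveI := finite_autGroup E hRn.1
  obtain ⟨c, hc, hcc, hD⟩ := exists_cocycle hT hxC hS hF hE hRc
  obtain ⟨hP, hPp, hcP⟩ := sylow_data hT hxC hS hF hE hRn hc
  set P₀ := normalizerIn T R with hP₀
  have hP₀S : P₀ ≤ S := inf_le_left.trans hTS
  haveI : Finite P₀ := finite_of_le hP₀S
  have hRP : R ≤ P₀ := le_normalizerIn_self hRn.1
  haveI : Finite ↥(centralizerIn R R) := finite_of_le ((centralizerIn_le.trans hRn.1).trans hTS)
  obtain ⟨A, hA, hAR, hq⟩ := exists_quadratic_ab hp2 (hS.to_le hP₀S)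
    (Z := centralizerIn R R) (R := R) (centralizerIn_le.trans hRP) (fun t ht => by
      refine mem_normalizer_of_maps fun m hm => ?_
      have := autMap_centre (R := R) (conjAut ht.2) ⟨m, hm⟩
      rwa [autMap_conjAut _ (FusionSys.mem_centralizerIn.1 hm).1] at this)
    (isMulCommutative_iff_forall.2 fun a ha b hb => congrArg Subtype.val
      (mul_comm (⟨a, ha⟩ : ↥(centralizerIn R R)) ⟨b, hb⟩))
    (fun z hz r hr => (FusionSys.mem_centralizerIn.1 hz).2 r hr) hJ
  obtain ⟨k, hk⟩ := IsPGroup.iff_card.1 (hS.to_le ((centralizerIn_le.trans hRn.1).trans hTS) :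
    IsPGroup p ↥(centralizerIn R R))
  set AH : Set (E.autGroup R) := {a | ∃ t ∈ A, ∃ htn : t ∈ Subgroup.normalizer (R : Set Ω),
    (a : MulAut R) = conjAut htn}
  have h := cocycle_trivial (ambig hT hxC hRn.1) p hp2 (k := k)
    (fun m => by rw [← hk]; exact pow_card_eq_one') hD hcc
    ((autInducedBy T R).subgroupOf (E.autGroup R)) hP hPp hcP AH
    (fun a ⟨t, ht, htn, he⟩ => Subgroup.mem_subgroupOf.2
      (mem_autInducedBy.2 ⟨t, (hA.1 ht).1, htn, he⟩))
    (fun a ⟨t, ht, htn, he⟩ m => by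
      have hm := (FusionSys.mem_centralizerIn.1 m.2).1
      refine Subtype.ext ?_
      show autMap (a : MulAut R) ((m : Ω)⁻¹ * autMap (a : MulAut R) m) =
        (m : Ω)⁻¹ * autMap (a : MulAut R) m
      have e : autMap (a : MulAut R) m = t * m * t⁻¹ := by
        rw [he, autMap_conjAut _ hm, conjMap_apply]
      have hmem : (m : Ω)⁻¹ * (t * m * t⁻¹) ∈ R :=
        R.mul_mem (R.inv_mem hm) ((Subgroup.mem_normalizer_iff.1 htn _).1 hm)
      rw [e, he, autMap_conjAut _ hmem, conjMap_apply, hq t ht m m.2, mul_inv_cancel_right])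
    (fun g hg => by
      refine cocycle_of_inv _ hD hcc ?_
      have hN : A ≤ normalizerIn T R := hA.1
      obtain ⟨h, hh, hhe⟩ := exists_extend_aut hT hS hF hE hRn (g⁻¹).2 hN fun t ht => by
        have := hg ⟨conjAut (hN ht).2, conjAut_mem_autGroup E hRn.1 (hN ht)⟩ ⟨t, ht, (hN ht).2, rfl⟩
        rw [Subgroup.mem_subgroupOf] at this
        simpa using this
      have hle : A ⊔ R ≤ P₀ := sup_le hA.1 hRP
      have hfix : Tw F x R (autMap ((g⁻¹ : E.autGroup R) : MulAut R)) 1 :=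
        ((hbig _ h hh (FusionSys.isCentric_of_le hRc le_sup_right (hle.trans inf_le_left))
          (key_lt le_sup_right (hle.trans hP₀S)
            ⟨le_sup_left, hA.2.1, fun B hB hB' => hA.2.2 B (hB.trans hle) hB'⟩ hAR)).mono
          le_sup_right).congr fun y hy => (hhe y hy).symm
      have h' : (1 : ↥(centralizerIn R R))⁻¹ * c g⁻¹ ∈ ambig hT hxC hRn.1 :=
        mem_ambig_of_tw hT hxC hS hF hE hRn.1 (g⁻¹).2 hfix (hc _)
      rwa [inv_one, one_mul] at h') ⟨α, hα⟩
  exact fix_of_tw hT hxC hS hF hE hRn.1 hα (hc ⟨α, hα⟩) h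

omit hxC in
theorem eq_jay_of_isIso {U : Subgroup Ω} {f : Ω → Ω} (hf : IsIso E (jay 0 T) U f) : U = jay 0 T := by
  haveI : Finite T := finite_of_le hT.1
  have hJT : jay 0 T ≤ S := jay_le.trans hT.1
  haveI := finite_of_le hJT
  haveI : Finite U := finite_of_le (hf.target_le.trans hT.1)
  have h1 : jay 0 U = U := by
    rw [jay_iso hf, jay_idem.1, ← hf.eq_imgSub]
  have h2 := key_eq_of_isIso (S := S) (isIso_of_sub hE.1.2.2.1 hf)
  rw [key_jay hT.1] at h2
  have hle : U ≤ jay 0 T := by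
    rw [← h1]
    refine sSup_le fun A hA => le_jay (maxIn_subset hf.target_le (le_of_not_gt fun hlt => ?_) hA)
    have h3 := card_jay_le (S := S) (hf.target_le.trans hT.1)
    have h4 := Nat.mul_le_mul_right (Nat.card S + 1) (Nat.succ_le_of_lt hlt)
    rw [Nat.succ_mul] at h4
    simp only [key] at h2
    omega
  exact Subgroup.eq_of_le_of_card_ge hle hf.card_eq.le

omit hxC in
theorem isCentric_jay : E.IsCentric (jay 0 T) ∧ E.IsFullyNormalized (jay 0 T) := by
  haveI : Finite T := finite_of_le hT.1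
  refine ⟨⟨jay_le, fun Q hQ => ?_⟩, jay_le, fun Q hQ => ?_⟩ <;>
    · obtain ⟨f, hf⟩ := isConj_iff.1 hQ
      obtain rfl := eq_jay_of_isIso hT hS hF hE hf
      first | exact centralizerIn_jay_le | exact le_rfl

/-- The base: after a change by an element of `Z(T)`, the automorphisms of `J(T)` fix `x`. -/
theorem exists_fix_jay : ∃ v ∈ T, (∀ t ∈ T, t * v = v * t) ∧
    ∀ α ∈ E.autGroup (jay 0 T), Tw F (x * v) (jay 0 T) (autMap α) 1 := by
  have hTS := hT.1
  haveI : Finite T := finite_of_le hTS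
  obtain ⟨hUc, hUn⟩ := isCentric_jay hT hS hF hE
  set U := jay 0 T with hU
  haveI := finite_autGroup E hUn.1
  obtain ⟨c, hc, hcc, hD⟩ := exists_cocycle hT hxC hS hF hE hUc
  obtain ⟨hP, hPp, hcP⟩ := sylow_data hT hxC hS hF hE hUn hc
  have hZS : centralizerIn U U ≤ S := (centralizerIn_le.trans hUn.1).trans hTS
  haveI : Finite ↥(centralizerIn U U) := finite_of_le hZS
  obtain ⟨k, hk⟩ := IsPGroup.iff_card.1 (hS.to_le hZS : IsPGroup p ↥(centralizerIn U U))
  have hTU : T ≤ normalizerIn T U := fun t ht =>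
    ⟨ht, normalizer_le_normalizer_jay 0 T (Subgroup.le_normalizer ht)⟩
  obtain ⟨v, hv, hvc⟩ := cocycle_average (ambig hT hxC hUn.1) p (k := k)
    (fun m => by rw [← hk]; exact pow_card_eq_one') hD hcc
    ((autInducedBy T U).subgroupOf (E.autGroup U)) hP hcP fun g => by
      set α : MulAut U := ((g⁻¹ : E.autGroup U) : MulAut U) with hαdef
      set N := ((autInducedBy T U).comap ((MulAut.conj α).toMonoidHom.comp (conjAutIn T U))).map
        (normalizerIn T U).subtype with hNdef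
      have hN : N ≤ normalizerIn T U := Subgroup.map_subtype_le _
      obtain ⟨h, hh, hhe⟩ := exists_extend_aut hT hS hF hE hUn (g⁻¹).2 hN fun t ht => by
        obtain ⟨s, hs, rfl⟩ := ht
        exact hs
      obtain ⟨h', hh', hh'e⟩ := hh.exists_inv
      have hUW : U ≤ imgSub h (N ⊔ U) := fun y hy => hh.mem_imgSub.2
        ⟨autMap (g : MulAut U) y, Subgroup.mem_sup_right (autMap_mem _ hy), by
          rw [hhe _ (autMap_mem _ hy), Subgroup.coe_inv, inv_autMap (g : MulAut U) hy]⟩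
      have hW : imgSub h (N ⊔ U) ≤ T := hh.imgSub_le
      obtain ⟨z, hz, htw⟩ :=
        exists_tw hT hxC hS hF hE hh' (FusionSys.isCentric_of_le hUc hUW hW)
      have hzc : ∀ y ∈ N ⊔ U, y * z = z * y := fun y hy => by
        have := htw.central hT hxC hW (h y) (hh.mem_imgSub.2 ⟨y, hy, rfl⟩)
        rwa [hh'e y hy] at this
      have hzT : z ∈ T := hh'.imgSub_le hz
      have hzM : z ∈ centralizerIn U U := FusionSys.mem_centralizerIn.2
        ⟨centralizerIn_le_of_isCentric hUc (FusionSys.mem_centralizerIn.2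
          ⟨hzT, fun y hy => hzc y (Subgroup.mem_sup_right hy)⟩),
          fun y hy => hzc y (Subgroup.mem_sup_right hy)⟩
      refine ⟨⟨z, hzM⟩, mem_ambig_of_tw hT hxC hS hF hE hUn.1 g.2 (hc g) ?_, fun a ha hga => ?_⟩
      · refine (htw.mono hUW).congr fun y hy => ?_
        have e : h (autMap (g : MulAut U) y) = y := by
          rw [hhe _ (autMap_mem _ hy), Subgroup.coe_inv, inv_autMap (g : MulAut U) hy]
        conv_rhs => rw [← e, hh'e _ (Subgroup.mem_sup_right (autMap_mem _ hy))]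
      · obtain ⟨t, ht, htn, he⟩ := mem_autInducedBy.1 (Subgroup.mem_subgroupOf.1 ha)
        have htN : t ∈ N := by
          refine ⟨⟨t, ht, htn⟩, ?_, rfl⟩
          show α * conjAut htn * α⁻¹ ∈ autInducedBy T U
          have e : ((g⁻¹ * a * g : E.autGroup U) : MulAut U) = α * conjAut htn * α⁻¹ := by
            simp [hαdef, ← he]
          rw [← e]
          exact Subgroup.mem_subgroupOf.1 hga
        refine Subtype.ext ?_
        show autMap (a : MulAut U) z = z
        rw [he, autMap_conjAut _ (FusionSys.mem_centralizerIn.1 hzM).1, conjMap_apply,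
          hzc t (Subgroup.mem_sup_left htN), mul_inv_cancel_right]
  have hvU := (FusionSys.mem_centralizerIn.1 v.2).1
  refine ⟨v, hUn.1 hvU, fun t ht => ?_, fun α hα => ?_⟩
  · have hmem : (⟨conjAut (hTU ht).2, conjAut_mem_autGroup E hUn.1 (hTU ht)⟩ : E.autGroup U) ∈
        (autInducedBy T U).subgroupOf (E.autGroup U) :=
      Subgroup.mem_subgroupOf.2 (mem_autInducedBy.2 ⟨t, ht, (hTU ht).2, rfl⟩)
    have h := congrArg Subtype.val (hv _ hmem)
    change autMap (conjAut (hTU ht).2) (v : Ω) = v at h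
    rw [autMap_conjAut _ hvU, conjMap_apply] at h
    exact mul_inv_eq_iff_eq_mul.1 h
  · set a : E.autGroup U := ⟨α, hα⟩
    have h₁ := (hc a).comp (fun y hy => autMap_mem α hy)
      ((mem_ambig hT hxC).1 (inv_mem (hvc a)) : Tw F x U id _) (FusionSys.mem_centralizerIn.1 (c a).2).1
    have e : (c a * a • v * v⁻¹)⁻¹ * c a = v * (a • v)⁻¹ := by
      simp [mul_inv_rev, mul_assoc, mul_comm, mul_left_comm]
    obtain ⟨k₂, hk₂, hk₂e, hk₂x⟩ := h₁
    change k₂ x = x * ((((c a * a • v * v⁻¹)⁻¹ * c a : ↥(centralizerIn U U))) : Ω) at hk₂x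
    rw [e] at hk₂x
    have hxm : x ∈ U ⊔ Subgroup.zpowers x := Subgroup.mem_sup_right (Subgroup.mem_zpowers x)
    refine ⟨k₂, hk₂.mono (sup_le le_sup_left (Subgroup.zpowers_le.2
      (Subgroup.mul_mem _ hxm (Subgroup.mem_sup_left hvU)))), hk₂e, ?_⟩
    rw [hk₂.map_mul hxm (Subgroup.mem_sup_left hvU), hk₂x, hk₂e _ hvU, mul_one, Subgroup.coe_mul,
      Subgroup.coe_inv]
    show x * ((v : Ω) * (autMap α v)⁻¹) * (id ∘ autMap α) v = x * v
    simp [mul_assoc]

omit hxC hF in
theorem lt_key_normalizerIn {U : Subgroup Ω} (hU : U ≤ T) (hUj : jay 0 U = U) (hne : U ≠ jay 0 T) :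
    key S U < key S (normalizerIn T U) ∧ ¬ jay 0 (normalizerIn T U) ≤ U := by
  haveI : Finite T := finite_of_le hT.1
  set N := normalizerIn T U
  have hNS : N ≤ S := inf_le_left.trans hT.1
  haveI : Finite N := finite_of_le hNS
  have hnot : ¬ jay 0 N ≤ U := fun hle => by
    have hUN : U = jay 0 N := hUj.symm.trans (jay_of_le hle (le_normalizerIn_self hU)).1
    have hNN : normalizerIn T N ≤ N := fun t ht => ⟨ht.1, by
      rw [hUN]; exact normalizer_le_normalizer_jay 0 N ht.2⟩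
    by_cases hNT : N = T
    · exact hne (by rw [← hNT]; exact hUN)
    · exact (H91.lt_normalizerIn (hS.to_le hT.1) inf_le_left hNT).not_ge hNN
  obtain ⟨A, hA, hAU⟩ : ∃ A ∈ maxIn 0 N, ¬ A ≤ U := by
    by_contra h
    exact hnot (sSup_le fun A hA => by_contra fun hne => h ⟨A, hA, hne⟩)
  exact ⟨key_lt (le_normalizerIn_self hU) hNS hA hAU, hnot⟩

/-- Automorphisms of `R` when `J(N_T(R))` lies in `R`. -/
theorem fix_of_jay_le (hp2 : p ≠ 2) (hRn : E.IsFullyNormalized R) (hRc : E.IsCentric R)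
    (hJ : jay 0 (normalizerIn T R) ≤ R)
    (hbase : ∀ β ∈ E.autGroup (jay 0 T), Tw F x (jay 0 T) (autMap β) 1)
    (hbig : ∀ P f, IsMap E P f → E.IsCentric P → key S R < key S P → Tw F x P f 1)
    {α : MulAut R} (hα : α ∈ E.autGroup R) : Tw F x R (autMap α) 1 := by
  have hTS := hT.1
  haveI : Finite T := finite_of_le hTS
  have hTp : IsPGroup p T := hS.to_le hTS
  have hsub := hE.1.2.2.1
  set P₀ := normalizerIn T R with hP₀
  haveI : Finite P₀ := finite_of_le ((inf_le_left : P₀ ≤ T).trans hTS)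
  haveI : Finite R := finite_of_le (hRn.1.trans hTS)
  have hRP : R ≤ P₀ := le_normalizerIn_self hRn.1
  obtain ⟨hJR, -⟩ := jay_of_le hJ hRP
  set U := jay 0 R with hUdef
  have hUR : U ≤ R := jay_le
  have hUT : U ≤ T := hUR.trans hRn.1
  have hUj : jay 0 U = U := jay_idem.1
  have hRN : R ≤ normalizerIn T U := fun r hr => ⟨hRn.1 hr,
    normalizer_le_normalizer_jay 0 R (Subgroup.le_normalizer hr)⟩
  obtain ⟨U', hUU', hU'n⟩ := exists_isFullyNormalized E hUT
  obtain ⟨g, hg, hgi, -⟩ := exists_map_to_fullyNormalized hTp hE.1.1 hU'n hUU'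
  set R' := imgSub g R with hR'
  have hgR : IsIso E R R' g := (hg.mono hRN).isIso
  have hR'T : R' ≤ T := hgR.target_le
  haveI : Finite R' := finite_of_le (hR'T.trans hTS)
  have hJR' : jay 0 R' = U' := by
    rw [jay_iso hgR, ← hUdef, ← hgi.eq_imgSub]
  have hU'c0 : centralizerIn T U' ≤ U' := by
    set C := centralizerIn T U'
    have hCR : C ≤ R' := by
      by_contra hnot
      have hnorm : R' ≤ Subgroup.normalizer (C : Set Ω) := fun r hr =>
        H91.CentFocal.le_normalizer_centralizerIn (S := T) (hR'T hr)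
          (hJR' ▸ normalizer_le_normalizer_jay 0 R' (Subgroup.le_normalizer hr))
      have hlt : R' < C ⊔ R' := lt_of_le_of_ne le_sup_right fun h => hnot (le_sup_left.trans h.ge)
      have hCRT : C ⊔ R' ≤ T := sup_le centralizerIn_le hR'T
      haveI : Finite ↥(C ⊔ R') := finite_of_le (hCRT.trans hTS)
      obtain ⟨n, hn, hnR⟩ := SetLike.exists_of_lt
        (FusionSys.lt_normalizerIn (hTp.to_le hCRT) hlt)
      obtain ⟨hnm, hnn⟩ := Subgroup.mem_inf.1 hn
      rw [← SetLike.mem_coe, Subgroup.coe_mul_of_right_le_normalizer_left C R' hnorm] at hnm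
      obtain ⟨d, hd, r, hr, rfl⟩ := hnm
      have hdR : d ∉ R' := fun h => hnR (R'.mul_mem h hr)
      have hdN : d ∈ normalizerIn T R' := ⟨(FusionSys.mem_centralizerIn.1 hd).1, by
        rw [show d = d * r * r⁻¹ by group]
        exact Subgroup.mul_mem _ hnn (Subgroup.le_normalizer (R'.inv_mem hr))⟩
      obtain ⟨h, hh, hhi, hhm⟩ :=
        exists_map_to_fullyNormalized hTp hE.1.1 hRn (isConj_symm hgR.isConj)
      have hU'R' : U' ≤ R' := hJR' ▸ jay_le
      have h1 : h d ∈ jay 0 P₀ := centralizerIn_jay_le (FusionSys.mem_centralizerIn.2 ⟨hhm d hdN,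
        fun y hy => by
          rw [← hJR, hUdef, jay_iso hhi, hJR'] at hy
          obtain ⟨w, hw, rfl⟩ := (hhi.isMap.mono hU'R').mem_imgSub.1 hy
          have hwN := le_normalizerIn_self hR'T (hU'R' hw)
          rw [← hh.map_mul hwN hdN, ← hh.map_mul hdN hwN,
            (FusionSys.mem_centralizerIn.1 hd).2 w hw]⟩)
      obtain ⟨r', hr', hre⟩ := hhi.exists_preimage (hJ h1)
      exact hdR (hh.injOn (le_normalizerIn_self hR'T hr') hdN hre ▸ hr')
    intro d hd
    rw [← hJR']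
    exact centralizerIn_jay_le (FusionSys.mem_centralizerIn.2 ⟨hCR hd,
      fun y hy => (FusionSys.mem_centralizerIn.1 hd).2 y (hJR' ▸ hy)⟩)
  have hU'c : E.IsCentric U' := H91.isCentric_of_centralizer_le
    (isFullyCentralized_of_isFullyNormalized hTp hE.1.1 hU'n) hU'c0
  have hUc : E.IsCentric U := H91.isCentric_of_isConj hU'c (isConj_symm hUU')
  have hkU : key S U = key S R := key_jay (hRn.1.trans hTS)
  have hkU' : key S U' = key S R :=
    (key_eq_of_isIso (isIso_of_sub hsub hgi)).symm.trans hkU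
  have hUfix : ∀ β ∈ E.autGroup U, Tw F x U (autMap β) 1 := by
    intro β hβ
    by_cases hUT' : U = jay 0 T
    · revert β
      rw [hUT']
      exact hbase
    · obtain ⟨hklt, -⟩ := lt_key_normalizerIn hT hS hE hUT hUj hUT'
      have hU'T' : U' ≠ jay 0 T := fun h => by
        obtain ⟨g', hg', -⟩ := hgi.exists_symm
        rw [h] at hg'
        exact hUT' (eq_jay_of_isIso hT hS hF hE hg')
      have hU'j : jay 0 U' = U' := by rw [← hJR']; exact jay_idem.1
      obtain ⟨-, hU'J⟩ := lt_key_normalizerIn hT hS hE hU'n.1 hU'j hU'T'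
      have hgfix : Tw F x U g 1 :=
        (hbig _ g hg (FusionSys.isCentric_of_le hUc (le_normalizerIn_self hUT) inf_le_left)
          (hkU ▸ hklt)).mono (le_normalizerIn_self hUT)
      obtain ⟨g', hg', hg'l, -⟩ := hgi.exists_symm
      have hβ' := hgi.autEquiv_mem_autGroup hβ
      have hβfix : Tw F x U' (autMap (hgi.autEquiv β)) 1 :=
        fix_of_jay_not_le hT hxC hS hF hE hp2 hU'n hU'c hU'J
          (fun P f hf hP hlt => hbig P f hf hP (hkU' ▸ hlt)) hβ'
      have hg'fix : Tw F x U' g' 1 := hgfix.fix_inv (isIso_of_sub hsub hgi) hg'l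
      refine Tw.congr ((hgfix.fix_comp (fun y hy => hgi.mem hy)
        (isIso_aut hT hxC hS hF hE hU'n.1 hβ').isMap hβfix).fix_comp
        (fun y hy => autMap_mem _ (hgi.mem hy)) (isMap_of_sub hsub hg'.isMap) hg'fix) fun y hy => ?_
      simp only [Function.comp_apply]
      rw [hgi.autMap_autEquiv β hy, hg'l _ (autMap_mem β hy)]
  obtain ⟨c, hc, hcc, hD⟩ := exists_cocycle hT hxC hS hF hE hRc
  obtain ⟨hP, hPp, hcP⟩ := sylow_data hT hxC hS hF hE hRn hc
  haveI := finite_autGroup E hRn.1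
  let Γ : Subgroup (E.autGroup R) :=
    { carrier := {a | Tw F x R (autMap (a : MulAut R)) 1}
      one_mem' := (tw_id hT hxC hRn.1).congr fun y hy => H91.CentFocal.autMap_one hy
      mul_mem' := fun {a b} ha hb => (hb.fix_comp (fun y hy => autMap_mem _ hy)
        (isIso_aut hT hxC hS hF hE hRn.1 a.2).isMap ha).congr fun y hy => autMap_mul _ _ hy
      inv_mem' := fun {a} ha => ha.fix_inv (isIso_aut hT hxC hS hF hE hRn.1 a.2)
        fun y hy => inv_autMap (a : MulAut R) hy }
  obtain ⟨-, Sy, hSy⟩ := isFullyAutomized_of_isFullyNormalized hTp hE.1.1 hRn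
  have hΓ : Γ = ⊤ := eq_top_of_sylow_le Γ Sy (fun a ha => ?_) fun a hap => ?_
  · have := hΓ ▸ Subgroup.mem_top (⟨α, hα⟩ : E.autGroup R)
    exact this
  · rw [hSy, Subgroup.mem_subgroupOf] at ha
    obtain ⟨t, ht, htn, he⟩ := mem_autInducedBy.1 ha
    show Tw F x R (autMap (a : MulAut R)) 1
    exact (tw_conjMap hT hxC hRn.1 ht).congr fun y hy => by
      rw [show (a : MulAut R) = conjAut htn from he]; exact autMap_conjAut _ hy
  set γ : MulAut R := (a : MulAut R)
  have hγi : IsIso E R R (autMap γ) := isIso_autMap hRn.1 a.2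
  have hγU : IsIso E U U (autMap γ) := by
    have h1 := (hγi.isMap.mono hUR).isIso
    have h2 : jay 0 R = imgSub (autMap γ) (jay 0 R) := jay_iso hγi
    rw [← hUdef] at h2
    rwa [← h2] at h1
  obtain ⟨β, hβ, hβe⟩ := hγU.exists_aut
  have hβp : (orderOf β).Coprime p := by
    refine hap.coprime_dvd_left (orderOf_dvd_of_pow_eq_one (aut_ext fun y hy => ?_))
    rw [H91.CentFocal.autMap_one hy, ← H91.CentFocal.autMap_pow β (g := autMap γ)
      (fun w hw => (hβe w hw).symm) _ hy, H91.CentFocal.autMap_pow γ (fun _ _ => rfl) _ (hUR hy),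
      ← SubgroupClass.coe_pow, pow_orderOf_eq_one, Subgroup.coe_one,
      H91.CentFocal.autMap_one (hUR hy)]
  obtain ⟨hcR, hcc'⟩ := FusionSys.mem_centralizerIn.1 (c a).2
  have hcU : (c a : Ω) ∈ U := centralizerIn_le_of_isCentric hUc
    (FusionSys.mem_centralizerIn.2 ⟨hRn.1 hcR, fun y hy => hcc' y (hUR hy)⟩)
  have hid : Tw F x U id (1⁻¹ * (c a : Ω)) :=
    Tw.diff hT hxC hUT (isIso_of_sub hsub hγU)
      ((hUfix β hβ).congr fun y hy => (hβe y hy).symm) ((hc a).mono hUR) U.one_mem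
  rw [inv_one, one_mul] at hid
  have hfixc : autMap γ (c a) = c a := by
    rw [← hβe _ hcU]
    exact autMap_eq_of_tw_id hT hxC hS hF hE hUc hβ hβp hcU hid
  have hpow : ∀ n : ℕ, Tw F x R (autMap (γ ^ n)) ((c a : Ω) ^ n) := by
    intro n
    induction n with
    | zero =>
      rw [pow_zero, pow_zero]
      exact (tw_id hT hxC hRn.1).congr fun y hy => H91.CentFocal.autMap_one hy
    | succ n ih =>
      have h := (ih.comp (fun y hy => autMap_mem _ hy) (hc a) (R.pow_mem hcR n)).congr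
        (g := autMap (γ ^ (n + 1))) fun y hy => by rw [pow_succ', autMap_mul _ _ hy]; rfl
      rw [(isIso_aut hT hxC hS hF hE hRn.1 a.2).isMap.map_pow hcR, hfixc, ← pow_succ'] at h
      exact h
  have hm : (c a) ^ orderOf a ∈ ambig hT hxC hRn.1 := by
    rw [mem_ambig, SubgroupClass.coe_pow]
    refine (hpow _).congr fun y hy => ?_
    rw [show γ ^ orderOf a = 1 by rw [← SubgroupClass.coe_pow, pow_orderOf_eq_one]; rfl,
      H91.CentFocal.autMap_one hy]
    rfl
  have hco : (orderOf (c a)).Coprime (orderOf a) := by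
    obtain ⟨i, hi⟩ := IsPGroup.iff_orderOf.1
      (hS.to_le ((centralizerIn_le.trans hRn.1).trans hTS) : IsPGroup p ↥(centralizerIn R R)) (c a)
    rw [hi]
    exact Nat.Coprime.pow_left i hap.symm
  obtain ⟨m, hmm⟩ := exists_pow_eq_self_of_coprime hco.symm
  exact fix_of_tw hT hxC hS hF hE hRn.1 a.2 (hc a) (hmm ▸ Subgroup.pow_mem _ hm m)

/-- For odd `p`, modulo `Z(T)` every element centralizing `T` is centralized by `E`. -/
theorem exists_good (hp2 : p ≠ 2) :
    ∃ v ∈ T, H91.CentSE.Good F E (x * v) := by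
  have hTS := hT.1
  haveI : Finite T := finite_of_le hTS
  obtain ⟨v, hv, hvc, hbase⟩ := exists_fix_jay hT hxC hS hF hE
  set w := x * v with hw
  have hwC : w ∈ centralizerIn S T := Subgroup.mul_mem _ hxC
    (FusionSys.mem_centralizerIn.2 ⟨hTS hv, hvc⟩)
  set B := Nat.card S * (Nat.card S + 1) + Nat.card S
  have hall : ∀ n, ∀ P f, IsMap E P f → E.IsCentric P → B < key S P + n → Tw F w P f 1 := by
    intro n
    induction n with
    | zero =>
      intro P f hf _ hlt
      exact absurd hlt (not_lt.2 (key_le_bound (hf.le.trans hTS)))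
    | succ n ih =>
      intro P f hf hP hlt
      refine centric_induction hT hwC hS hF hE (Φ := fun P f => Tw F w P f 1) (k := key S P)
        (fun _ _ _ h he => h.congr he) (fun _ _ hc ha => tw_conjMap hT hwC hc.1 ha)
        (fun _ _ _ _ _ hv hm _ _ _ h1 h2 => h1.fix_comp hm (isMap_of_sub hE.1.2.2.1 hv) h2)
        (fun _ _ _ _ hu _ hinv _ _ h => h.fix_inv (isIso_of_sub hE.1.2.2.1 hu) hinv)
        (fun R hRn hRc hk α hα => ?_) hf hP le_rfl
      have hbig : ∀ Q g, IsMap E Q g → E.IsCentric Q → key S R < key S Q → Tw F w Q g 1 :=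
        fun Q g hg hQ hl => ih Q g hg hQ (by omega)
      by_cases hJ : jay 0 (normalizerIn T R) ≤ R
      · exact fix_of_jay_le hT hwC hS hF hE hp2 hRn hRc hJ hbase hbig hα
      · exact fix_of_jay_not_le hT hwC hS hF hE hp2 hRn hRc hJ hbig hα
  have hsub := hE.1.2.2.1
  let E' : FusionSystem T := subSys E (fun P f => Tw F w P f 1)
    (fun _ _ _ h he => h.congr he) (fun _ _ hP ha => tw_conjMap hT hwC hP ha)
    (fun _ _ _ _ _ hv hm h1 h2 => h1.fix_comp hm (isMap_of_sub hsub hv) h2)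
    (fun _ _ _ _ hu _ hinv h => h.fix_inv (isIso_of_sub hsub hu) hinv)
  have hle : E ≤ E' := H91.le_of_aut E E' (hS.to_le hTS) hE.1.1 fun R hRn hRc α hα => by
    obtain ⟨φ, hφ, hφe⟩ := (mem_autGroup_iff hRn.1).1 hα
    refine mem_autGroup_of_isMap ⟨φ, ⟨hφ, ?_⟩, hφe⟩
    refine (hall (B + 1) R _ (isIso_autMap hRn.1 hα).isMap hRc (by omega)).congr fun y hy => ?_
    rw [homFun_mem φ hy]
    exact hφe ⟨y, hy⟩
  refine ⟨v, hv, hwC, fun P f hf => ?_⟩
  obtain ⟨φ, ⟨-, k, hk, hke, hkx⟩, hφ⟩ := le_iff_isMap.1 hle P f hf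
  exact ⟨k, hk, fun y hy => (hke y hy).trans ((homFun_mem φ hy).trans (hφ ⟨y, hy⟩)),
    by rw [hkx, mul_one]⟩

end Cfsg.Agent.H3.NormalCentral
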