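import Cfsg.Agent.Thompson.Replacement
import Cfsg.Agent.FusionSys.Normal

/-!
The order of a largest abelian subgroup and the order of the Thompson subgroup, as one number; the
replacement giving a largest abelian subgroup acting quadratically on an abelian normal subgroup.
-/

set_option autoImplicit false
set_option linter.style.haveILetI false
set_option linter.unusedSectionVars false

namespace Cfsg.Agent.H3.NormalCentral

open Cfsg Cfsg.FusionSystem Cfsg.Agent.FusionSys Cfsg.Agent.Thompson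
open Cfsg.FusionSystem (centralizerIn normalizerIn)
open scoped commutatorElement

variable {Ω : Type*} [Group Ω] {S T P Q R A : Subgroup Ω} {F : FusionSystem S}

/-- The largest order of an abelian subgroup of `P`. -/
noncomputable def dAb (P : Subgroup Ω) : ℕ :=
  sSup ((fun A : Subgroup Ω => Nat.card A) '' {A | A ≤ P ∧ IsAbExp 0 A})

theorem exists_maxAb [Finite P] : ∃ A, A ∈ maxIn 0 P := by
  obtain ⟨A, hA⟩ := maxIn_nonempty 0 (⊤ : Subgroup P)
  exact ⟨A.map P.subtype, maxIn_subtype (e := 0) (P := P) ▸ Set.mem_image_of_mem _ hA⟩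

theorem dAb_eq (hA : A ∈ maxIn 0 P) : dAb P = Nat.card A := by
  refine IsGreatest.csSup_eq ⟨⟨A, ⟨hA.1, hA.2.1⟩, rfl⟩, ?_⟩
  rintro _ ⟨B, ⟨hB, hB'⟩, rfl⟩
  exact hA.2.2 B hB hB'

theorem dAb_mono [Finite Q] (h : P ≤ Q) : dAb P ≤ dAb Q := by
  haveI : Finite P := Finite.of_injective _ (Subgroup.inclusion_injective h)
  obtain ⟨A, hA⟩ := exists_maxAb (P := P)
  obtain ⟨B, hB⟩ := exists_maxAb (P := Q)
  rw [dAb_eq hA, dAb_eq hB]
  exact hB.2.2 A (hA.1.trans h) hA.2.1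

theorem maxIn_subset [Finite Q] (h : P ≤ Q) (hd : dAb Q ≤ dAb P) : maxIn 0 P ⊆ maxIn 0 Q := by
  intro A hA
  obtain ⟨B, hB⟩ := exists_maxAb (P := Q)
  refine mem_maxIn_of_card_eq hB (hA.1.trans h) hA.2.1 (le_antisymm (hB.2.2 A (hA.1.trans h) hA.2.1) ?_)
  rw [← dAb_eq hA, ← dAb_eq hB]
  exact hd

theorem mem_of_centralizes [Finite P] (hA : A ∈ maxIn 0 P) {x : Ω} (hxP : x ∈ P)
    (hx : ∀ a ∈ A, a * x = x * a) : x ∈ A := by
  have hle : A ⊔ Subgroup.zpowers x ≤ P := sup_le hA.1 (Subgroup.zpowers_le.2 hxP)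
  haveI : Finite ↥(A ⊔ Subgroup.zpowers x) :=
    Finite.of_injective _ (Subgroup.inclusion_injective hle)
  have h := hA.2.2 _ hle (isAbExp_sup_zpowers hA.2.1 (Subgroup.mem_centralizer_iff.2 hx) (pow_zero x))
  rw [Subgroup.eq_of_le_of_card_ge le_sup_left h]
  exact Subgroup.mem_sup_right (Subgroup.mem_zpowers x)

theorem centralizerIn_jay_le [Finite P] : centralizerIn P (jay 0 P) ≤ jay 0 P := fun x hx => by
  obtain ⟨A, hA⟩ := exists_maxAb (P := P)
  exact le_jay hA (mem_of_centralizes hA (FusionSys.mem_centralizerIn.1 hx).1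
    fun a ha => (FusionSys.mem_centralizerIn.1 hx).2 a (le_jay hA ha))

theorem jay_idem [Finite P] : jay 0 (jay 0 P) = jay 0 P ∧ dAb (jay 0 P) = dAb P := by
  obtain ⟨A, hA⟩ := exists_maxAb (P := P)
  have hm := maxIn_eq_of_mem hA (le_jay hA) jay_le
  refine ⟨le_antisymm jay_le (sSup_le fun B hB => le_jay ?_), ?_⟩
  · rw [hm]; exact ⟨hB, le_jay hB⟩
  · rw [dAb_eq hA, dAb_eq (hm ▸ ⟨hA, le_jay hA⟩ : A ∈ maxIn 0 (jay 0 P))]

theorem jay_of_le [Finite P] (hJ : jay 0 P ≤ Q) (hQP : Q ≤ P) :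
    jay 0 Q = jay 0 P ∧ dAb Q = dAb P := by
  obtain ⟨A, hA⟩ := exists_maxAb (P := P)
  have hm := maxIn_eq_of_mem hA ((le_jay hA).trans hJ) hQP
  refine ⟨le_antisymm (sSup_le fun B hB => ?_) (sSup_le fun B hB => le_jay ?_), ?_⟩
  · rw [hm] at hB; exact le_jay hB.1
  · rw [hm]; exact ⟨hB, (le_jay hB).trans hJ⟩
  · rw [dAb_eq hA, dAb_eq (hm ▸ ⟨hA, (le_jay hA).trans hJ⟩ : A ∈ maxIn 0 Q)]

/-- The map of subgroups given by a map of the system. -/
theorem maxIn_iso {f : Ω → Ω} (hf : IsIso F P Q f) :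
    maxIn 0 Q = imgSub f '' maxIn 0 P := by
  obtain ⟨φ, hφ, hφf⟩ := hf.isMap
  have hinj := F.injective_of_mem hφ
  have hr : (⊤ : Subgroup P).map φ = Q := by
    ext y
    refine ⟨?_, fun hy => ?_⟩
    · rintro ⟨x, -, rfl⟩
      exact (hφf x).symm ▸ hf.mem x.2
    · obtain ⟨x, hx, rfl⟩ := hf.exists_preimage hy
      exact ⟨⟨x, hx⟩, Subgroup.mem_top _, hφf _⟩
  have himg : ∀ A : Subgroup P, A.map φ = imgSub f (A.map P.subtype) := fun A => by
    have hle : A.map P.subtype ≤ P := Subgroup.map_subtype_le A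
    apply SetLike.coe_injective
    rw [(hf.isMap.mono hle).coe_imgSub]
    ext y
    constructor
    · rintro ⟨x, hx, rfl⟩
      exact ⟨x, ⟨x, hx, rfl⟩, (hφf x).symm⟩
    · rintro ⟨_, ⟨x, hx, rfl⟩, rfl⟩
      exact ⟨x, hx, hφf x⟩
  rw [maxIn_subtype (P := P), ← hr, maxIn_map φ hinj, ← Set.image_comp]
  exact Set.image_congr fun A _ => himg A

theorem jay_iso {f : Ω → Ω} (hf : IsIso F P Q f) : jay 0 Q = imgSub f (jay 0 P) := by
  have hJ := hf.isMap.mono (jay_le (e := 0) (P := P))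
  unfold jay
  rw [maxIn_iso hf]
  refine le_antisymm (sSup_le ?_) ((Subgroup.closure_le _).2 ?_)
  · rintro _ ⟨A, hA, rfl⟩ y hy
    obtain ⟨x, hx, rfl⟩ := (hf.isMap.mono hA.1).mem_imgSub.1 hy
    exact hJ.mem_imgSub.2 ⟨x, le_jay hA hx, rfl⟩
  · rintro _ ⟨x, hx, rfl⟩
    obtain ⟨φ, hφ, hφf⟩ := hJ
    have hle : sSup (maxIn 0 P) ≤ ((sSup (imgSub f '' maxIn 0 P)).comap φ).map
        (jay 0 P).subtype := by
      refine sSup_le fun A hA a ha => ⟨⟨a, le_jay hA ha⟩, ?_, rfl⟩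
      show φ ⟨a, le_jay hA ha⟩ ∈ sSup (imgSub f '' maxIn 0 P)
      rw [hφf]
      exact le_sSup (Set.mem_image_of_mem (imgSub f) hA) ((hf.isMap.mono hA.1).mem_imgSub.2 ⟨a, ha, rfl⟩)
    obtain ⟨z, hz, rfl⟩ := hle hx
    exact hφf z ▸ hz

variable [Finite S]

/-- The order on the subgroups of `S`. -/
noncomputable def key (S P : Subgroup Ω) : ℕ :=
  dAb P * (Nat.card S + 1) + Nat.card ↥(jay 0 P)

theorem card_jay_le (hP : P ≤ S) : Nat.card ↥(jay 0 P) < Nat.card S + 1 :=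
  Nat.lt_succ_of_le (Subgroup.card_le_of_le (jay_le.trans hP))

theorem key_le_bound (hP : P ≤ S) :
    key S P ≤ Nat.card S * (Nat.card S + 1) + Nat.card S := by
  haveI := finite_of_le hP
  obtain ⟨A, hA⟩ := exists_maxAb (P := P)
  refine Nat.add_le_add (Nat.mul_le_mul_right _ ?_) (Subgroup.card_le_of_le (jay_le.trans hP))
  rw [dAb_eq hA]
  exact Subgroup.card_le_of_le (hA.1.trans hP)

theorem key_mono (h : P ≤ Q) (hQ : Q ≤ S) : key S P ≤ key S Q := by
  haveI := finite_of_le hQ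
  rcases (dAb_mono h).lt_or_eq with hlt | heq
  · have h1 := card_jay_le (S := S) (h.trans hQ)
    have h2 := Nat.mul_le_mul_right (Nat.card S + 1) (Nat.succ_le_of_lt hlt)
    rw [Nat.succ_mul] at h2
    unfold key
    omega
  · unfold key
    rw [heq]
    haveI : Finite ↥(jay 0 Q) := finite_of_le (jay_le.trans hQ)
    refine Nat.add_le_add_left (Subgroup.card_le_of_le ?_) _
    exact sSup_le_sSup (maxIn_subset h heq.ge)

theorem key_lt (h : P ≤ Q) (hQ : Q ≤ S) (hA : A ∈ maxIn 0 Q) (hAP : ¬ A ≤ P) :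
    key S P < key S Q := by
  haveI := finite_of_le hQ
  rcases (dAb_mono h).lt_or_eq with hlt | heq
  · have h1 := card_jay_le (S := S) (h.trans hQ)
    have h2 := Nat.mul_le_mul_right (Nat.card S + 1) (Nat.succ_le_of_lt hlt)
    rw [Nat.succ_mul] at h2
    unfold key
    omega
  · unfold key
    rw [heq]
    refine Nat.add_lt_add_left ?_ _
    have hle : jay 0 P ≤ jay 0 Q := sSup_le_sSup (maxIn_subset h heq.ge)
    haveI : Finite ↥(jay 0 Q) := finite_of_le (jay_le.trans hQ)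
    by_contra hge
    exact hAP ((le_jay hA).trans ((Subgroup.eq_of_le_of_card_ge hle (not_lt.1 hge)).ge.trans jay_le))

theorem key_eq_of_isIso {f : Ω → Ω} (hf : IsIso F P Q f) : key S P = key S Q := by
  haveI := finite_of_le hf.source_le
  obtain ⟨A, hA⟩ := exists_maxAb (P := P)
  have h1 : imgSub f A ∈ maxIn 0 Q := maxIn_iso hf ▸ Set.mem_image_of_mem _ hA
  unfold key
  rw [dAb_eq hA, dAb_eq h1, jay_iso hf, ← (hf.isMap.mono hA.1).isIso.card_eq,
    ← (hf.isMap.mono jay_le).isIso.card_eq]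

theorem key_jay (hP : P ≤ S) : key S (jay 0 P) = key S P := by
  haveI := finite_of_le hP
  unfold key
  rw [jay_idem.1, jay_idem.2]

variable {p : ℕ} [Fact p.Prime]

/-- A largest abelian subgroup outside `R` acting quadratically on the abelian normal subgroup `Z`
centralized by `R`. -/
theorem exists_quadratic_ab [Finite P] (hp : p ≠ 2) (hP : IsPGroup p P) {Z : Subgroup Ω}
    (hZP : Z ≤ P) (hZn : P ≤ Subgroup.normalizer (Z : Set Ω)) (hZc : IsMulCommutative Z)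
    (hZR : ∀ z ∈ Z, ∀ r ∈ R, r * z = z * r) (hJ : ¬ jay 0 P ≤ R) :
    ∃ A ∈ maxIn 0 P, ¬ A ≤ R ∧
      ∀ a ∈ A, ∀ z ∈ Z, a * (z⁻¹ * (a * z * a⁻¹)) = z⁻¹ * (a * z * a⁻¹) * a := by
  obtain ⟨A₀, hA₀, hA₀R⟩ : ∃ A ∈ maxIn 0 P, ¬ A ≤ R := by
    by_contra h
    exact hJ (sSup_le fun A hA => by_contra fun hne => h ⟨A, hA, hne⟩)
  suffices ∃ A ∈ maxIn 0 P, ¬ A ≤ R ∧ Z ≤ Subgroup.normalizer (A : Set Ω) by
    obtain ⟨A, hA, hAR, hN⟩ := this
    refine ⟨A, hA, hAR, fun a ha z hz => hA.2.1.comm ha ?_⟩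
    have h : z⁻¹ * a * z⁻¹⁻¹ ∈ A := (Subgroup.mem_normalizer_iff.1 (hN (Z.inv_mem hz)) a).1 ha
    convert A.mul_mem h (A.inv_mem ha) using 1
    group
  by_cases hall : ∀ A ∈ maxIn 0 P, ∀ a ∈ A, ∀ z ∈ Z, a * z = z * a
  · haveI : Finite A₀ := Finite.of_injective _ (Subgroup.inclusion_injective hA₀.1)
    exact ⟨A₀, hA₀, hA₀R, fun z hz => mem_normalizer_of_maps (P := A₀) fun a ha => by
      rwa [← hall A₀ hA₀ a ha z hz, mul_inv_cancel_right]⟩
  · push Not at hall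
    set ι := P.subtype
    have hι : Function.Injective ι := P.subtype_injective
    set Z' := Z.subgroupOf P with hZ'
    have hZ'c : IsMulCommutative Z' := isMulCommutative_iff_forall.2 fun a ha b hb =>
      Subtype.ext (isMulCommutative_iff_forall.1 hZc _ ha _ hb)
    haveI hZ'n : Z'.Normal := ⟨fun z hz g => (Subgroup.mem_normalizer_iff.1 (hZn g.2) _).1 hz⟩
    obtain ⟨A, ⟨hA, hAc⟩, hmax⟩ := Set.exists_max_image
      {A : Subgroup P | A ∈ maxIn 0 (⊤ : Subgroup P) ∧ ∃ a ∈ A, ∃ z ∈ Z', a * z ≠ z * a}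
      (fun A => Nat.card ↥(A ⊓ Z')) (Set.toFinite _) (by
        obtain ⟨A, hA, a, ha, z, hz, hne⟩ := hall
        rw [maxIn_subtype] at hA
        obtain ⟨A', hA', rfl⟩ := hA
        obtain ⟨a', ha', rfl⟩ := ha
        exact ⟨A', hA', a', ha', ⟨z, hZP hz⟩, hz, fun h => hne (congrArg Subtype.val h)⟩)
    refine ⟨A.map ι, maxIn_subtype (e := 0) (P := P) ▸ Set.mem_image_of_mem _ hA, fun hAR => ?_, ?_⟩
    · obtain ⟨a, ha, z, hz, hne⟩ := hAc
      exact hne (Subtype.ext (hZR z hz a (hAR ⟨a, ha, rfl⟩)))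
    · suffices h : Z' ≤ Subgroup.normalizer (A : Set P) by
        intro z hz
        have hzn := (h (show (⟨z, hZP hz⟩ : P) ∈ Z' from hz))
        haveI : Finite (A.map ι) :=
          Finite.of_injective _ (Subgroup.inclusion_injective (Subgroup.map_subtype_le A))
        refine mem_normalizer_of_maps (P := A.map ι) ?_
        rintro _ ⟨a, ha, rfl⟩
        exact ⟨(⟨z, hZP hz⟩ : P) * a * (⟨z, hZP hz⟩ : P)⁻¹, (Subgroup.mem_normalizer_iff.1 hzn a).1 ha, rfl⟩
      by_contra hnot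
      obtain ⟨A', -, hA', hcard, hlt, hA'N, -⟩ := Thompson.replacement (p := p) (e := 0)
        (S := (⊤ : Subgroup P)) (B := Z') (A := A) (.inr hZ'c) (.inl rfl) (hP.to_subgroup ⊤) le_top
        (Subgroup.normalizer_eq_top (H := Z')).ge le_top hA.2.1
        (by rw [show ⁅Z', Z'⁆ = (⊥ : Subgroup P) from Subgroup.commutator_eq_bot_iff_le_centralizer.2
              (Subgroup.le_centralizer_iff_isMulCommutative.2 hZ'c), Subgroup.commutator_bot_left])
        (by rw [show ⁅Z', Z'⁆ = (⊥ : Subgroup P) from Subgroup.commutator_eq_bot_iff_le_centralizer.2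
              (Subgroup.le_centralizer_iff_isMulCommutative.2 hZ'c)]; exact bot_le) hnot
      have hA'm := mem_maxIn_of_card_eq hA le_top hA' hcard
      have hA'c : ∃ a ∈ A', ∃ z ∈ Z', a * z ≠ z * a := by
        by_contra h
        push Not at h
        refine hnot fun z hz => hA'N (mem_of_mem_centralizer hA'm (Subgroup.mem_top z)
          (Subgroup.mem_centralizer_iff.2 fun a ha => h a ha z hz) (pow_zero _))
      have h1 := hmax A' ⟨hA'm, hA'c⟩
      exact hlt.ne (Subgroup.eq_of_le_of_card_ge hlt.le h1)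

end Cfsg.Agent.H3.NormalCentral
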