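import Cfsg.Agent.H91.CentFocal.Fix
import Cfsg.Agent.H91.Alperin
import Cfsg.Agent.H91.CentSE.Good
import Cfsg.Agent.H3.NormalCentral.Key

/-!
Extensions of the maps of a normal subsystem to an element `x` centralizing its subgroup: `x ↦ x z`.
-/

set_option autoImplicit false
set_option linter.style.haveILetI false
set_option linter.unusedSectionVars false

namespace Cfsg.Agent.H3.NormalCentral

open Cfsg Cfsg.FusionSystem Cfsg.Agent.FusionSys Cfsg.Agent.H91.CentFocal Cfsg.Agent.H91.CentSE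
open Cfsg.FusionSystem (centralizerIn normalizerIn)

variable {Ω : Type*} [Group Ω] {S T P Q R : Subgroup Ω} {F : FusionSystem S} {E : FusionSystem T}
  {x z z₁ z₂ : Ω} {f g : Ω → Ω} {p : ℕ}

/-- `f` extends to a map carrying `x` to `x z`. -/
def Tw (F : FusionSystem S) (x : Ω) (P : Subgroup Ω) (f : Ω → Ω) (z : Ω) : Prop :=
  ∃ g, IsMap F (P ⊔ Subgroup.zpowers x) g ∧ (∀ y ∈ P, g y = f y) ∧ g x = x * z

theorem Tw.congr (h : Tw F x P f z) (he : ∀ y ∈ P, g y = f y) : Tw F x P g z := by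
  obtain ⟨k, hk, hke, hkx⟩ := h
  exact ⟨k, hk, fun y hy => (hke y hy).trans (he y hy).symm, hkx⟩

theorem Tw.mono (h : Tw F x R f z) (hle : P ≤ R) : Tw F x P f z := by
  obtain ⟨k, hk, hke, hkx⟩ := h
  exact ⟨k, hk.mono (sup_le_sup_right hle _), fun y hy => hke y (hle hy), hkx⟩

theorem Tw.comp (hm : ∀ y ∈ P, f y ∈ Q) (h₁ : Tw F x P f z₁) (h₂ : Tw F x Q g z₂) (hz₁ : z₁ ∈ Q) :
    Tw F x P (g ∘ f) (z₂ * g z₁) := by
  obtain ⟨a, ha, hae, hax⟩ := h₁
  obtain ⟨b, hb, hbe, hbx⟩ := h₂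
  have hxm : x ∈ P ⊔ Subgroup.zpowers x := Subgroup.mem_sup_right (Subgroup.mem_zpowers x)
  have hxQ : x ∈ Q ⊔ Subgroup.zpowers x := Subgroup.mem_sup_right (Subgroup.mem_zpowers x)
  have hzQ : z₁ ∈ Q ⊔ Subgroup.zpowers x := Subgroup.mem_sup_left hz₁
  refine ⟨b ∘ a, ha.comp hb fun y hy => ha.mapsTo_sup
    (fun w hw => Subgroup.mem_sup_left ((hae w hw).symm ▸ hm w hw))
    (fun w hw => Subgroup.zpowers_le.2 (Subgroup.mul_mem _ hxQ hzQ)
      (hax ▸ mem_zpowers_image ha hxm hw)) hy,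
    fun y hy => ?_, ?_⟩
  · rw [Function.comp_apply, Function.comp_apply, hae y hy, hbe _ (hm y hy)]
  · rw [Function.comp_apply, hax, hb.map_mul hxQ hzQ, hbx, hbe _ hz₁, mul_assoc]

theorem Tw.inv (hi : IsIso F P Q f) (hgf : ∀ y ∈ P, g (f y) = y) (h : Tw F x P f z) (hz : z ∈ Q) :
    Tw F x Q g (g z)⁻¹ := by
  obtain ⟨a, ha, hae, hax⟩ := h
  obtain ⟨k, hk, hka⟩ := ha.exists_inv
  obtain ⟨w, hw, hwz⟩ := hi.exists_preimage hz
  have hgz : g z = w := by rw [← hwz, hgf w hw]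
  rw [hgz]
  have hxm : x ∈ P ⊔ Subgroup.zpowers x := Subgroup.mem_sup_right (Subgroup.mem_zpowers x)
  have hwm : w ∈ P ⊔ Subgroup.zpowers x := Subgroup.mem_sup_left hw
  have hx : a (x * w⁻¹) = x := by
    rw [ha.map_mul hxm (Subgroup.inv_mem _ hwm), ha.map_inv hwm, hax, hae w hw, hwz,
      mul_inv_cancel_right]
  have hle : Q ⊔ Subgroup.zpowers x ≤ imgSub a (P ⊔ Subgroup.zpowers x) := by
    refine sup_le (fun y hy => ?_) (Subgroup.zpowers_le.2 (ha.mem_imgSub.2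
      ⟨x * w⁻¹, Subgroup.mul_mem _ hxm (Subgroup.inv_mem _ hwm), hx⟩))
    obtain ⟨u, hu, rfl⟩ := hi.exists_preimage hy
    exact ha.mem_imgSub.2 ⟨u, Subgroup.mem_sup_left hu, hae u hu⟩
  refine ⟨k, hk.mono hle, fun y hy => ?_, ?_⟩
  · obtain ⟨u, hu, rfl⟩ := hi.exists_preimage hy
    rw [hgf u hu, ← hae u hu, hka u (Subgroup.mem_sup_left hu)]
  · conv_lhs => rw [← hx]
    exact hka _ (Subgroup.mul_mem _ hxm (Subgroup.inv_mem _ hwm))

variable (hT : F.StronglyClosed T) (hxC : x ∈ centralizerIn S T)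
include hT hxC

theorem tw_conjMap (hP : P ≤ T) {t : Ω} (ht : t ∈ T) : Tw F x P (conjMap t) 1 :=
  ⟨conjMap t, isMap_conj F (sup_le (hP.trans hT.1) (Subgroup.zpowers_le.2 hxC.1)) (hT.1 ht),
    fun _ _ => rfl, by rw [conjMap_apply, (FusionSys.mem_centralizerIn.1 hxC).2 t ht,
      mul_inv_cancel_right, mul_one]⟩

theorem tw_id (hP : P ≤ T) : Tw F x P id 1 :=
  ⟨id, isMap_id F (sup_le (hP.trans hT.1) (Subgroup.zpowers_le.2 hxC.1)), fun _ _ => rfl,
    (mul_one x).symm⟩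

theorem Tw.central (hP : P ≤ T) (h : Tw F x P f z) : ∀ y ∈ P, f y * z = z * f y := by
  obtain ⟨a, ha, hae, hax⟩ := h
  intro y hy
  have hxm : x ∈ P ⊔ Subgroup.zpowers x := Subgroup.mem_sup_right (Subgroup.mem_zpowers x)
  have hym : y ∈ P ⊔ Subgroup.zpowers x := Subgroup.mem_sup_left hy
  have hayT : a y ∈ T := (stronglyClosed_iff.1 hT).2 P a hP (ha.mono le_sup_left) y hy
  have hc := (FusionSys.mem_centralizerIn.1 hxC).2
  have h1 : a y * a x = a x * a y := by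
    rw [← ha.map_mul hym hxm, ← ha.map_mul hxm hym, hc y (hP hy)]
  rw [hax, ← mul_assoc, hc _ hayT, mul_assoc, mul_assoc] at h1
  rw [← hae y hy]
  exact mul_left_cancel h1

/-- Two twisted extensions differ by a twisted extension of the identity. -/
theorem Tw.diff (hP : P ≤ T) (hi : IsIso F P Q f) (h₁ : Tw F x P f z₁) (h₂ : Tw F x P f z₂)
    (hz₁ : z₁ ∈ Q) : Tw F x Q id (z₁⁻¹ * z₂) := by
  obtain ⟨g, hg, hgl, hgr⟩ := hi.exists_symm
  have h₃ := (Tw.inv hi hgl h₁ hz₁).comp (fun y hy => hg.mem hy) h₂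
    (P.inv_mem (hg.mem hz₁))
  obtain ⟨a, ha, hae, hax⟩ := h₃
  refine ⟨a, ha, fun y hy => ?_, ?_⟩
  · rw [hae y hy, Function.comp_apply, hgr y hy, id_eq]
  · rw [hax, hi.isMap.map_inv (hg.mem hz₁), hgr _ hz₁]
    congr 1
    obtain ⟨u, hu, rfl⟩ := hi.exists_preimage hz₁
    have := h₂.central hT hxC hP u⁻¹ (P.inv_mem hu)
    rw [hi.isMap.map_inv hu] at this
    exact this.symm

/-- The ambiguity of `x z` over `Q`. -/
theorem Tw.id_mul (h₁ : Tw F x Q id z₁) (h₂ : Tw F x Q id z₂) (hz₁ : z₁ ∈ Q) :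
    Tw F x Q id (z₂ * z₁) := h₁.comp (fun _ hy => hy) h₂ hz₁

theorem Tw.id_inv (hQ : Q ≤ T) (h : Tw F x Q id z) (hz : z ∈ Q) : Tw F x Q id z⁻¹ :=
  h.inv (isIso_id F (hQ.trans hT.1)) (fun _ _ => rfl) hz

variable [Finite S] [Fact p.Prime] (hS : IsPGroup p S) (hF : F.IsSaturated p) (hE : E.IsNormalIn F p)
include hS hF hE

/-- Induction over the maps with centric sources of large key. -/
theorem centric_induction {Φ : Subgroup Ω → (Ω → Ω) → Prop} {k : ℕ}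
    (congr : ∀ P f g, Φ P f → (∀ y ∈ P, g y = f y) → Φ P g)
    (conj : ∀ P a, E.IsCentric P → a ∈ T → Φ P (conjMap a))
    (comp : ∀ P Q f g, IsMap E P f → IsMap E Q g → (∀ y ∈ P, f y ∈ Q) → E.IsCentric P →
      E.IsCentric (imgSub f P) → E.IsCentric Q → Φ P f → Φ Q g → Φ P (g ∘ f))
    (inv : ∀ P Q f g, IsIso E P Q f → IsIso E Q P g → (∀ y ∈ P, g (f y) = y) → E.IsCentric P →
      E.IsCentric Q → Φ P f → Φ Q g)
    (haut : ∀ R, E.IsFullyNormalized R → E.IsCentric R → k ≤ key S R → ∀ α ∈ E.autGroup R,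
      Φ R (autMap α))
    {P : Subgroup Ω} {f : Ω → Ω} (hf : IsMap E P f) (hP : E.IsCentric P) (hk : k ≤ key S P) :
    Φ P f := by
  have hTS : T ≤ S := hT.1
  haveI : Finite T := finite_of_le hTS
  have hTp : IsPGroup p T := hS.to_le hTS
  let E' : FusionSystem T := subSys E (fun P f => E.IsCentric P → k ≤ key S P → Φ P f)
    (fun P f g h he hc hk => congr P f g (h hc hk) he)
    (fun P a _ ha hc _ => conj P a hc ha)
    (fun A B u v hu hv hm h1 h2 hc hk => by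
      have hi : imgSub u A ≤ B := fun y hy => by
        obtain ⟨w, hw, rfl⟩ := hu.mem_imgSub.1 hy
        exact hm w hw
      have hc' := H91.isCentric_of_isConj hc hu.isIso.isConj
      have hB := FusionSys.isCentric_of_le hc' hi hv.le
      refine comp A B u v hu hv hm hc hc' hB (h1 hc hk) (h2 hB ?_)
      refine hk.trans (le_trans ?_ (key_mono hi (hv.le.trans hTS)))
      exact (key_eq_of_isIso (isIso_of_sub hE.1.2.2.1 hu.isIso)).le)
    (fun A B u v hu hv hinv h hc hk => by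
      have hA := H91.isCentric_of_isConj hc hv.isConj
      refine inv A B u v hu hv hinv hA hc (h hA (hk.trans ?_))
      exact (key_eq_of_isIso (isIso_of_sub hE.1.2.2.1 hv)).le)
  have hle : E ≤ E' := H91.le_of_aut E E' hTp hE.1.1 fun R hRn hRc α hα => by
    obtain ⟨φ, hφ, hφe⟩ := (mem_autGroup_iff hRn.1).1 hα
    refine mem_autGroup_of_isMap ⟨φ, ⟨hφ, fun hc hk' => congr R _ _ (haut R hRn hc hk' α hα) ?_⟩, hφe⟩
    intro y hy
    rw [homFun_mem φ hy]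
    exact hφe ⟨y, hy⟩
  obtain ⟨φ, ⟨-, hΦ⟩, hφ⟩ := le_iff_isMap.1 hle P f hf
  exact congr P _ _ (hΦ hP hk) fun y hy => (hφ ⟨y, hy⟩).symm.trans (homFun_mem φ hy).symm

/-- The automorphisms of centric subgroups extend to twisted maps. -/
theorem exists_tw_aut (hR : E.IsCentric R) {α : MulAut R} (hα : α ∈ E.autGroup R) :
    ∃ z ∈ R, Tw F x R (autMap α) z := by
  have hinv := hE.1.2.2
  have hRS : R ≤ S := hR.1.trans hT.1
  obtain ⟨R', hRR', hR'n⟩ := exists_isFullyNormalized F hRS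
  obtain ⟨ρ, hρ, hρi, -⟩ := exists_map_to_fullyNormalized hS hF hR'n hRR'
  obtain ⟨β, hβ, hβe, hβc⟩ := hasExt_all hS hF hE (isCentric_target hinv hR hρi) hR'n
    (autEquiv_mem hinv hR.1 hρi hα)
  have hRN : R ≤ normalizerIn S R := le_normalizerIn_self hRS
  have hxR : x ∈ centralizerIn S R := FusionSys.mem_centralizerIn.2
    ⟨hxC.1, fun r hr => (FusionSys.mem_centralizerIn.1 hxC).2 r (hR.1 hr)⟩
  have hxN := centralizerIn_le_normalizerIn hxR
  have hX : R ⊔ Subgroup.zpowers x ≤ normalizerIn S R := sup_le hRN (Subgroup.zpowers_le.2 hxN)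
  have hρx : ρ x ∈ centralizerIn S R' :=
    hρi.mem_centralizerIn_of_extends hρ hRN (fun _ _ => rfl) hxN hxR
  have hρX : ∀ y ∈ R ⊔ Subgroup.zpowers x, ρ y ∈ R' ⊔ centralizerIn S R' := fun y hy =>
    (hρ.mono hX).mapsTo_sup (fun r hr => Subgroup.mem_sup_left (hρi.mem hr))
      (fun w hw => Subgroup.mem_sup_right (Subgroup.zpowers_le.2 hρx
        (mem_zpowers_image hρ hxN hw))) hy
  obtain ⟨v, hv, hvρ⟩ := hρ.exists_inv
  obtain ⟨w, hw, hwd⟩ := hρi.exists_preimage (hβc _ hρx)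
  have hβx : β (ρ x) = ρ (x * w) := by
    rw [hρ.map_mul hxN (hRN hw), hwd, mul_inv_cancel_left]
  have hcomp : IsMap F (R ⊔ Subgroup.zpowers x) (β ∘ ρ) := (hρ.mono hX).comp hβ hρX
  have him : ∀ y ∈ R ⊔ Subgroup.zpowers x, (β ∘ ρ) y ∈ imgSub ρ (normalizerIn S R) := fun y hy =>
    hcomp.mapsTo_sup (fun r hr => hρ.mem_imgSub.2 ⟨_, hRN (autMap_mem α hr), by
        rw [Function.comp_apply, hβe _ (hρi.mem hr), hρi.autMap_autEquiv _ hr]⟩)
      (fun u hu => (Subgroup.zpowers_le.2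
        (hρ.mem_imgSub.2 ⟨x * w, Subgroup.mul_mem _ hxN (hRN hw), hβx.symm⟩) :
          Subgroup.zpowers ((β ∘ ρ) x) ≤ imgSub ρ (normalizerIn S R))
        (mem_zpowers_image hcomp (Subgroup.mem_sup_right (Subgroup.mem_zpowers x)) hu)) hy
  refine ⟨w, hw, v ∘ (β ∘ ρ), hcomp.comp hv him, fun r hr => ?_, ?_⟩
  · rw [Function.comp_apply, Function.comp_apply, hβe _ (hρi.mem hr), hρi.autMap_autEquiv _ hr,
      hvρ _ (hRN (autMap_mem α hr))]
  · rw [Function.comp_apply, Function.comp_apply, hβx, hvρ _ (Subgroup.mul_mem _ hxN (hRN hw))]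

/-- The maps with centric sources extend to twisted maps, the twist lying in `T`. -/
theorem exists_tw {P : Subgroup Ω} {f : Ω → Ω} (hf : IsMap E P f) (hP : E.IsCentric P) :
    ∃ z ∈ imgSub f P, Tw F x P f z := by
  have hsub := hE.1.2.2.1
  haveI : Finite T := finite_of_le hT.1
  suffices ∃ z ∈ T, Tw F x P f z by
    obtain ⟨z, hz, h⟩ := this
    refine ⟨z, centralizerIn_le_of_isCentric (H91.isCentric_of_isConj hP hf.isIso.isConj)
      (FusionSys.mem_centralizerIn.2 ⟨hz, fun y hy => ?_⟩), h⟩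
    obtain ⟨w, hw, rfl⟩ := hf.mem_imgSub.1 hy
    exact h.central hT hxC hP.1 w hw
  refine centric_induction hT hxC hS hF hE (Φ := fun P f => ∃ z ∈ T, Tw F x P f z) (k := 0)
    (fun _ _ _ ⟨z, hz, h⟩ he => ⟨z, hz, h.congr he⟩)
    (fun _ _ hc ha => ⟨1, T.one_mem, tw_conjMap hT hxC hc.1 ha⟩)
    ?_ ?_ (fun R _ hc _ α hα => ?_) hf hP (Nat.zero_le _)
  · rintro A B u v hu hv hm hA hA' hB ⟨z₁, hz₁, h₁⟩ ⟨z₂, hz₂, h₂⟩
    have hz₁B : z₁ ∈ B := by
      have hi : imgSub u A ≤ B := fun y hy => by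
        obtain ⟨w, hw, rfl⟩ := hu.mem_imgSub.1 hy; exact hm w hw
      refine hi (centralizerIn_le_of_isCentric hA'
        (FusionSys.mem_centralizerIn.2 ⟨hz₁, fun y hy => ?_⟩))
      · obtain ⟨w, hw, rfl⟩ := hu.mem_imgSub.1 hy; exact h₁.central hT hxC hA.1 w hw
    exact ⟨_, T.mul_mem hz₂ (hv.mem_S hz₁B), h₁.comp hm h₂ hz₁B⟩
  · rintro A B u v hu hv hinv hA hB ⟨z, hz, h⟩
    have hzB : z ∈ B := centralizerIn_le_of_isCentric hB
      (FusionSys.mem_centralizerIn.2 ⟨hz, fun y hy => by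
        obtain ⟨w, hw, rfl⟩ := hu.exists_preimage hy; exact h.central hT hxC hA.1 w hw⟩)
    exact ⟨_, T.inv_mem (hv.isMap.mem_S hzB), h.inv (isIso_of_sub hsub hu) hinv hzB⟩
  · obtain ⟨z, hz, h⟩ := exists_tw_aut hT hxC hS hF hE hc hα
    exact ⟨z, hc.1 hz, h⟩

/-- An automorphism of order prime to `p` fixes the ambiguity of a twist. -/
theorem autMap_eq_of_tw_id (hR : E.IsCentric R) {α : MulAut R} (hα : α ∈ E.autGroup R)
    (hαp : (orderOf α).Coprime p) (hz : z ∈ R) (h : Tw F x R id z) : autMap α z = z := by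
  obtain ⟨d, hd, hdR, hdx⟩ := h
  have hinv := hE.1.2.2
  have hRS : R ≤ S := hR.1.trans hT.1
  obtain ⟨R', hRR', hR'n⟩ := exists_isFullyNormalized F hRS
  obtain ⟨ρ, hρ, hρi, -⟩ := exists_map_to_fullyNormalized hS hF hR'n hRR'
  obtain ⟨β₀, hβ₀, hβ₀e, hβ₀c⟩ := hasExt_all hS hF hE (isCentric_target hinv hR hρi) hR'n
    (autEquiv_mem hinv hR.1 hρi hα)
  obtain ⟨k, b, hbp, hβ, hβb, hβe⟩ :=
    exists_pPrime_power (p := p) hβ₀ fun y hy => HasExt.mapsTo hβ₀ hβ₀e hβ₀c hy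
  have hord : hρi.autEquiv α ^ orderOf α = 1 := by
    rw [← map_pow, pow_orderOf_eq_one, map_one]
  have hβR : ∀ r ∈ R', β₀^[k] r = autMap (hρi.autEquiv α) r := fun r hr => by
    rw [hβe r (Subgroup.mem_sup_left hr) (orderOf α) hαp
      (by rw [autMap_pow _ hβ₀e _ hr, hord, H91.CentFocal.autMap_one hr]), hβ₀e r hr]
  have hR'c := isFullyCentralized_of_isFullyNormalized hS hF hR'n
  have hfix := fix_focal hS hF hR'c hβ (fun r hr => (hβR r hr).symm ▸ autMap_mem _ hr)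
    (fun c hc => iterate_mod (fun y hy => HasExt.mapsTo hβ₀ hβ₀e hβ₀c hy)
      (fun y hy => HasExt.mod hβ₀ hβ₀e hβ₀c hy) k (Subgroup.mem_sup_right hc)) hbp hβb
  set X := R ⊔ Subgroup.zpowers x with hX
  have hRN : R ≤ normalizerIn S R := le_normalizerIn_self hRS
  have hxR : x ∈ centralizerIn S R := FusionSys.mem_centralizerIn.2
    ⟨hxC.1, fun r hr => (FusionSys.mem_centralizerIn.1 hxC).2 r (hR.1 hr)⟩
  have hxN := centralizerIn_le_normalizerIn hxR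
  have hXN : X ≤ normalizerIn S R := sup_le hRN (Subgroup.zpowers_le.2 hxN)
  have hxX : x ∈ X := Subgroup.mem_sup_right (Subgroup.mem_zpowers x)
  have hdX : ∀ y ∈ X, d y ∈ X := fun y hy => hd.mapsTo_sup
    (fun r hr => Subgroup.mem_sup_left ((hdR r hr).symm ▸ hr))
    (fun w hw => Subgroup.zpowers_le.2 (Subgroup.mul_mem _ hxX (Subgroup.mem_sup_left hz))
      (hdx ▸ mem_zpowers_image hd hxX hw)) hy
  obtain ⟨v, hv, hvρ, -⟩ := (hρ.mono hXN).isIso.exists_symm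
  have hψ : IsMap F (imgSub ρ X) (ρ ∘ (d ∘ v)) :=
    (hv.isMap.comp hd fun y hy => hv.mem hy).comp hρ fun y hy => hXN (hdX _ (hv.mem hy))
  have hψR : ∀ r ∈ R', (ρ ∘ (d ∘ v)) r = r := fun r hr => by
    obtain ⟨r₀, hr₀, rfl⟩ := hρi.exists_preimage hr
    rw [Function.comp_apply, Function.comp_apply, hvρ r₀ (Subgroup.mem_sup_left hr₀), hdR r₀ hr₀]
    rfl
  have hle : Subgroup.zpowers (ρ x) ⊔ R' ≤ imgSub ρ X := by
    refine sup_le (Subgroup.zpowers_le.2 ((hρ.mono hXN).mem_imgSub.2 ⟨x, hxX, rfl⟩)) fun r hr => ?_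
    obtain ⟨r₀, hr₀, rfl⟩ := hρi.exists_preimage hr
    exact (hρ.mono hXN).mem_imgSub.2 ⟨r₀, Subgroup.mem_sup_left hr₀, rfl⟩
  have hρx : ρ x ∈ centralizerIn S R' :=
    hρi.mem_centralizerIn_of_extends hρ hRN (fun _ _ => rfl) hxN hxR
  have hψi : IsIso F R' R' (ρ ∘ (d ∘ v)) := (isIso_id F hR'n.1).congr hψR
  have hD : IsMap (H91.centSys F hR'c.1) (Subgroup.zpowers (ρ x)) (ρ ∘ (d ∘ v)) :=
    (isMap_centSys_iff hR'c.1).2 ⟨Subgroup.zpowers_le.2 hρx, fun y hy =>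
      hψi.mem_centralizerIn_of_extends (hψ.mono hle) le_sup_right (fun _ _ => rfl)
        (Subgroup.mem_sup_left hy) (Subgroup.zpowers_le.2 hρx hy),
      _, hψ.mono hle, fun _ _ => rfl, hψR⟩
  have hfoc : ρ z ∈ (H91.centSys F hR'c.1).focalSubgroup := by
    obtain ⟨φ, hφ, hφe⟩ := hD
    refine Subgroup.subset_closure ⟨_, φ, ⟨ρ x, Subgroup.mem_zpowers _⟩, hφ, ?_⟩
    rw [hφe]
    show _ = (ρ x)⁻¹ * ρ (d (v (ρ x)))
    rw [hvρ x hxX, hdx, hρ.map_mul hxN (hRN hz), inv_mul_cancel_left]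
  have h1 := hfix _ hfoc
  rw [hβR _ (hρi.mem hz), hρi.autMap_autEquiv _ hz] at h1
  exact hρi.isMap.injOn (autMap_mem α hz) hz h1

end Cfsg.Agent.H3.NormalCentral
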